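import Groth.Agent.AlgSp.K608.GpdSq
import Groth.Agent.AlgSp.K595.DiagRel

/-!
# `IsSeparatedSp` and separated morphisms
-/

set_option autoImplicit false
universe u
open CategoryTheory CategoryTheory.Limits AlgebraicGeometry Opposite
open AlgSp

namespace K608.SepAbs

variable {S : Scheme.{u}}

/-- The map `X ×_Y X ⟶ X × X` is a base change of the diagonal of `Y`. -/
theorem isPullback_toProd {C : Type*} [Category C] [HasPullbacks C] [HasBinaryProducts C] {X Y : C}
    (f : X ⟶ Y) :
    IsPullback (pullback.fst f f ≫ f) (K595.DiagRel.toProd f) (Limits.diag Y) (prod.map f f) := by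
  refine K608.Gpd.isPullback_of_exists_unique ?_ ?_ ?_
  · apply Limits.prod.hom_ext
    · simp [prod.lift_fst]
    · simp [prod.lift_snd, pullback.condition]
  · intro T a b h
    have h1 : a = (b ≫ prod.fst) ≫ f := by
      have := congrArg (· ≫ prod.fst) h
      simpa [prod.lift_fst] using this
    have h2 : a = (b ≫ prod.snd) ≫ f := by
      have := congrArg (· ≫ prod.snd) h
      simpa [prod.lift_snd] using this
    refine ⟨pullback.lift (b ≫ prod.fst) (b ≫ prod.snd) (h1.symm.trans h2), ?_, ?_⟩
    · rw [← Category.assoc, pullback.lift_fst, ← h1]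
    · apply Limits.prod.hom_ext
      · simp [K595.DiagRel.toProd, prod.lift_fst, prod.lift_snd, pullback.lift_fst, pullback.lift_snd]
      · simp [K595.DiagRel.toProd, prod.lift_fst, prod.lift_snd, pullback.lift_fst, pullback.lift_snd]
  · intro T l l' _ h2
    rw [← cancel_mono (K595.DiagRel.toProd f)]
    exact h2

theorem diag_eq {C : Type*} [Category C] [HasPullbacks C] [HasBinaryProducts C] {X Y : C}
    (f : X ⟶ Y) : Limits.diag X = pullback.diagonal f ≫ K595.DiagRel.toProd f := by
  apply Limits.prod.hom_ext
  · simp [K595.DiagRel.toProd, prod.lift_fst, prod.lift_snd, pullback.lift_fst, pullback.lift_snd]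
  · simp [K595.DiagRel.toProd, prod.lift_fst, prod.lift_snd, pullback.lift_fst, pullback.lift_snd]

/-- A space with a separated morphism to a separated space is separated. -/
theorem isSeparatedSp_of_isSeparatedMor {X Y : Sp S} (f : X ⟶ Y) (hf : IsSeparatedMor f)
    (hY : IsSeparatedSp Y) : IsSeparatedSp X := by
  unfold IsSeparatedSp
  rw [diag_eq f]
  exact (RepWith @IsClosedImmersion).comp_mem _ _ hf
    (MorphismProperty.of_isPullback (P := RepWith @IsClosedImmersion) (isPullback_toProd f) hY)

/-- Morphisms from a separated space are separated. -/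
theorem isSeparatedMor_of_isSeparatedSp {X Y : Sp S} (f : X ⟶ Y) (hX : IsSeparatedSp X) :
    IsSeparatedMor f :=
  K595.DiagRel.repWith_diagonal_of_diag f hX

end K608.SepAbs
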