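import Groth.Prelude.Def_AlgSpGpd
import Mathlib.CategoryTheory.Monoidal.Cartesian.Grp

/-!
# The groupoid of a group object over a sheaf

`K608.GrpGpd.ofGrp G : GroupoidSp B` with objects `B`, arrows `G.left`, source and target `G.hom`.
-/

set_option autoImplicit false
universe u
open CategoryTheory CategoryTheory.Limits AlgebraicGeometry Opposite
  MonoidalCategory CartesianMonoidalCategory MonObj
open AlgSp

namespace K608.GrpGpd

variable {S : Scheme.{u}} {B : AlgSp.Sp S} (G : Over B) [GrpObj G]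

/-- the composition map -/
noncomputable def comp : pullback G.hom G.hom ⟶ G.left := (μ[G]).left

theorem lift_comp {T : Sp S} (α β : T ⟶ G.left) (h : α ≫ G.hom = β ≫ G.hom) (τ : T ⟶ B)
    (hτ : α ≫ G.hom = τ) (hτ' : β ≫ G.hom = τ) :
    pullback.lift α β h ≫ comp G =
      ((Over.homMk α hτ : Over.mk τ ⟶ G) * (Over.homMk β hτ' : Over.mk τ ⟶ G)).left := rfl

theorem lift_comp_hom {T : Sp S} (α β : T ⟶ G.left) (h : α ≫ G.hom = β ≫ G.hom) :
    (pullback.lift α β h ≫ comp G) ≫ G.hom = α ≫ G.hom := by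
  rw [lift_comp G α β h (α ≫ G.hom) rfl h.symm]
  exact Over.w _

theorem homMk_mul_left {T : Sp S} {τ : T ⟶ B} (a b : Over.mk τ ⟶ G)
    (h : a.left ≫ G.hom = b.left ≫ G.hom) :
    pullback.lift a.left b.left h ≫ comp G = (a * b).left := rfl

/-- The groupoid of a group object. -/
noncomputable def ofGrp : GroupoidSp B where
  U := B
  R := G.left
  pU := 𝟙 B
  pR := G.hom
  s := G.hom
  t := G.hom
  e := (η[G]).left
  i := (ι[G]).left
  c := comp G
  s_over := Category.comp_id _
  t_over := Category.comp_id _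
  comp_s α β h := (lift_comp_hom G α β h).trans h
  comp_t α β h := lift_comp_hom G α β h
  assoc α β γ h₁ h₂ := by
    have e := congrArg (fun f => f.left) (mul_assoc (Over.homMk α rfl : Over.mk (α ≫ G.hom) ⟶ G)
      (Over.homMk β h₁.symm) (Over.homMk γ (h₂.symm.trans h₁.symm)))
    exact e
  e_s := Over.w (η[G])
  e_t := Over.w (η[G])
  comp_e α := by
    have e := congrArg (fun f => f.left) (_root_.mul_one (Over.homMk α rfl : Over.mk (α ≫ G.hom) ⟶ G))
    refine Eq.trans ?_ e
    have h : (1 : Over.mk (α ≫ G.hom) ⟶ G).left = α ≫ G.hom ≫ (η[G]).left := by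
      rw [Hom.one_def, Over.comp_left, ← Category.assoc]
      rfl
    change _ = pullback.lift α (1 : Over.mk (α ≫ G.hom) ⟶ G).left
      (Over.w (1 : Over.mk (α ≫ G.hom) ⟶ G)).symm ≫ comp G
    congr 1
  e_comp α := by
    have e := congrArg (fun f => f.left) (_root_.one_mul (Over.homMk α rfl : Over.mk (α ≫ G.hom) ⟶ G))
    refine Eq.trans ?_ e
    have h : (1 : Over.mk (α ≫ G.hom) ⟶ G).left = α ≫ G.hom ≫ (η[G]).left := by
      rw [Hom.one_def, Over.comp_left, ← Category.assoc]
      rfl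
    change _ = pullback.lift (1 : Over.mk (α ≫ G.hom) ⟶ G).left α
      (Over.w (1 : Over.mk (α ≫ G.hom) ⟶ G)) ≫ comp G
    congr 1
  i_s := Over.w (ι[G])
  i_t := Over.w (ι[G])
  comp_i α := by
    have e := congrArg (fun f => f.left) (mul_inv_cancel (Over.homMk α rfl : Over.mk (α ≫ G.hom) ⟶ G))
    have h : (1 : Over.mk (α ≫ G.hom) ⟶ G).left = α ≫ G.hom ≫ (η[G]).left := by
      rw [Hom.one_def, Over.comp_left, ← Category.assoc]
      rfl
    refine Eq.trans ?_ (e.trans h)
    rfl
  i_comp α := by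
    have e := congrArg (fun f => f.left) (inv_mul_cancel (Over.homMk α rfl : Over.mk (α ≫ G.hom) ⟶ G))
    have h : (1 : Over.mk (α ≫ G.hom) ⟶ G).left = α ≫ G.hom ≫ (η[G]).left := by
      rw [Hom.one_def, Over.comp_left, ← Category.assoc]
      rfl
    refine Eq.trans ?_ (e.trans h)
    rfl

end K608.GrpGpd
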