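import Groth.Agent.AlgSp.K608.Pts2

/-!
# Open immersions of sheaves induce open embeddings on points
-/

set_option autoImplicit false
universe u
open CategoryTheory CategoryTheory.Limits AlgebraicGeometry Opposite
open AlgSp

namespace K608.OpenEmb

variable {S : Scheme.{u}} {F G H : Sp S}

/-- A morphism of sheaves which is representable by monomorphisms is injective on points with values
in schemes. -/
theorem hom_ext_of_repWith {P : MorphismProperty Scheme.{u}}
    (hP : ∀ ⦃X Y : Scheme.{u}⦄ (f : X ⟶ Y), P f → Mono f) {W X : Sp S} {w : W ⟶ X}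
    (hw : RepWith P w) {T : Over S} {a b : (yon S).obj T ⟶ W} (h : a ≫ w = b ≫ w) : a = b := by
  obtain ⟨V, snd, fst, sq⟩ := hw.1 (a ≫ w)
  have hm : Mono snd.left := hP _ (hw.2 (a ≫ w) fst snd sq)
  have hm' : Mono ((Over.forget S).map snd) := hm
  have : Mono snd := (Over.forget S).mono_of_mono_map hm'
  have : Mono ((yon S).map snd) := inferInstance
  have e1 : sq.lift a (𝟙 _) (by rw [Category.id_comp]) = sq.lift b (𝟙 _) (by rw [Category.id_comp, h]) := by
    rw [← cancel_mono ((yon S).map snd), sq.lift_snd, sq.lift_snd]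
  rw [← sq.lift_fst a (𝟙 _) (by rw [Category.id_comp]), e1, sq.lift_fst]

/-- A morphism of sheaves injective on scheme-valued points is injective on points. -/
theorem points_injective_of_hom_ext {W X : Sp S} {w : W ⟶ X}
    (hw : ∀ {T : Over S} {a b : (yon S).obj T ⟶ W}, a ≫ w = b ≫ w → a = b) :
    Function.Injective (Points.map w) := by
  intro x y h
  obtain ⟨K, _, v, a, rfl⟩ := K608.Pts.exists_pt x
  obtain ⟨L, _, v', b, rfl⟩ := K608.Pts.exists_pt y
  rw [K608.Pts.map_pt, K608.Pts.map_pt, K608.Pts.pt_eq_pt_iff] at h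
  obtain ⟨Ω, _, z, i, j, hij⟩ := h
  rw [K608.Pts.pt_eq_pt_iff]
  refine ⟨Ω, inferInstance, z, i, j, hw ?_⟩
  rw [Category.assoc, Category.assoc, hij]

theorem points_injective_of_repWith {P : MorphismProperty Scheme.{u}}
    (hP : ∀ ⦃X Y : Scheme.{u}⦄ (f : X ⟶ Y), P f → Mono f) {W X : Sp S} {w : W ⟶ X}
    (hw : RepWith P w) : Function.Injective (Points.map w) :=
  points_injective_of_hom_ext fun h => hom_ext_of_repWith hP hw h

theorem points_injective_of_mono {W X : Sp S} (w : W ⟶ X) [Mono w] :
    Function.Injective (Points.map w) :=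
  points_injective_of_hom_ext fun h => (cancel_mono w).1 h

/-- A representable morphism with universally open (e.g. open) representing morphisms is open on
points. -/
theorem isOpenMap_of_repWith {P : MorphismProperty Scheme.{u}}
    (hP : ∀ ⦃X Y : Scheme.{u}⦄ (f : X ⟶ Y), P f → IsOpenMap f) {W X : Sp S} {w : W ⟶ X}
    (hw : RepWith P w) : IsOpenMap (Points.map w) := by
  intro O hO
  rw [Points.isOpen_iff]
  intro T g
  obtain ⟨V, snd, fst, sq⟩ := hw.1 g
  have ho : IsOpenMap snd.left := hP _ (hw.2 g fst snd sq)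
  have : Points.ofPt g ⁻¹' (Points.map w '' O) = snd.left '' (Points.ofPt fst ⁻¹' O) := by
    ext t
    constructor
    · rintro ⟨x, hx, hxt⟩
      obtain ⟨p, hp1, hp2⟩ := K608.Pts.exists_of_isPullback sq x (Points.ofPt (𝟙 _) t)
        (by rw [hxt, Points.map_ofPt, Category.id_comp])
      obtain ⟨v, rfl⟩ := K608.Pts.ofPt_surjective_yon p
      refine ⟨v, ?_, ?_⟩
      · rw [Points.map_ofPt, Category.id_comp] at hp1
        rwa [Set.mem_preimage, hp1]
      · apply K608.Pts.ofPt_yon_injective
        rw [← hp2, Points.map_ofPt, Category.id_comp, ← Category.comp_id ((yon S).map snd),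
          K608.Pts.ofPt_yon_map_comp]
    · rintro ⟨v, hv, rfl⟩
      refine ⟨Points.ofPt fst v, hv, ?_⟩
      rw [Points.map_ofPt, sq.w, K608.Pts.ofPt_yon_map_comp]
  rw [this]
  exact ho _ (Points.isOpen_iff.1 hO _ _)

theorem isOpenEmbedding_of_repWith_isOpenImmersion {W X : Sp S} {w : W ⟶ X}
    (hw : RepWith @IsOpenImmersion w) : Topology.IsOpenEmbedding (Points.map w) :=
  .of_continuous_injective_isOpenMap (Points.continuous_map w)
    (points_injective_of_repWith (fun _ _ f h => by
      have : IsOpenImmersion f := h; infer_instance) hw)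
    (isOpenMap_of_repWith (fun _ _ f h => by
      have : IsOpenImmersion f := h; exact f.isOpenEmbedding.isOpenMap) hw)

/-- `h_U ⟶ F` representable étale is open on points. -/
theorem isOpenMap_ofPt_of_repWith {P : MorphismProperty Scheme.{u}}
    (hP : ∀ ⦃X Y : Scheme.{u}⦄ (f : X ⟶ Y), P f → IsOpenMap f) {U : Over S} {X : Sp S}
    {w : (yon S).obj U ⟶ X} (hw : RepWith P w) : IsOpenMap (Points.ofPt w) := by
  have : Points.ofPt w = Points.map w ∘ Points.schemeHomeo U := by
    funext t
    exact Points.ofPt_eq_map_ofScheme w t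
  rw [this]
  exact (isOpenMap_of_repWith hP hw).comp (Points.schemeHomeo U).isOpenMap

end K608.OpenEmb
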