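import Groth.Prelude.Def_AlgSpGpd

/-!
# Calculus of arrows in a groupoid in sheaves (`AlgSp.GroupoidSp`)

`K608.Gpd.mul G α β h` is `α ∘ β` for arrows `α β : T ⟶ G.R` with `α ≫ s = β ≫ t`.
-/

set_option autoImplicit false
universe u
open CategoryTheory CategoryTheory.Limits AlgebraicGeometry Opposite

namespace K608.Gpd

variable {S : Scheme.{u}} {B : AlgSp.Sp S} (G : AlgSp.GroupoidSp B)

/-- composition of arrows `α ∘ β` -/
noncomputable def mul {T : AlgSp.Sp S} (α β : T ⟶ G.R) (h : α ≫ G.s = β ≫ G.t) : T ⟶ G.R :=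
  pullback.lift α β h ≫ G.c

theorem mul_s {T : AlgSp.Sp S} (α β : T ⟶ G.R) (h : α ≫ G.s = β ≫ G.t) :
    mul G α β h ≫ G.s = β ≫ G.s := G.comp_s α β h

theorem mul_t {T : AlgSp.Sp S} (α β : T ⟶ G.R) (h : α ≫ G.s = β ≫ G.t) :
    mul G α β h ≫ G.t = α ≫ G.t := G.comp_t α β h

theorem comp_mul {T T' : AlgSp.Sp S} (f : T' ⟶ T) (α β : T ⟶ G.R) (h : α ≫ G.s = β ≫ G.t) :
    f ≫ mul G α β h = mul G (f ≫ α) (f ≫ β) (by rw [Category.assoc, Category.assoc, h]) := by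
  have h' : (f ≫ α) ≫ G.s = (f ≫ β) ≫ G.t := by rw [Category.assoc, Category.assoc, h]
  unfold mul
  rw [← Category.assoc]
  congr 1
  apply pullback.hom_ext
  · rw [Category.assoc, pullback.lift_fst, pullback.lift_fst]
  · rw [Category.assoc, pullback.lift_snd, pullback.lift_snd]

theorem mul_congr {T : AlgSp.Sp S} {α α' β β' : T ⟶ G.R} (h : α ≫ G.s = β ≫ G.t)
    (ha : α = α') (hb : β = β') :
    mul G α β h = mul G α' β' (by rw [← ha, ← hb, h]) := by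
  subst ha hb; rfl

theorem mul_assoc {T : AlgSp.Sp S} (α β γ : T ⟶ G.R) (h₁ : α ≫ G.s = β ≫ G.t)
    (h₂ : β ≫ G.s = γ ≫ G.t) :
    mul G (mul G α β h₁) γ ((mul_s G α β h₁).trans h₂) =
      mul G α (mul G β γ h₂) (h₁.trans (mul_t G β γ h₂).symm) :=
  G.assoc α β γ h₁ h₂

/-- inverse arrow -/
noncomputable def inv {T : AlgSp.Sp S} (α : T ⟶ G.R) : T ⟶ G.R := α ≫ G.i

/-- identity arrow -/
noncomputable def one {T : AlgSp.Sp S} (x : T ⟶ G.U) : T ⟶ G.R := x ≫ G.e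

@[simp] theorem inv_s {T : AlgSp.Sp S} (α : T ⟶ G.R) : inv G α ≫ G.s = α ≫ G.t := by
  simp [inv, G.i_s]

@[simp] theorem inv_t {T : AlgSp.Sp S} (α : T ⟶ G.R) : inv G α ≫ G.t = α ≫ G.s := by
  simp [inv, G.i_t]

@[simp] theorem one_s {T : AlgSp.Sp S} (x : T ⟶ G.U) : one G x ≫ G.s = x := by
  simp [one, G.e_s]

@[simp] theorem one_t {T : AlgSp.Sp S} (x : T ⟶ G.U) : one G x ≫ G.t = x := by
  simp [one, G.e_t]

theorem comp_inv {T T' : AlgSp.Sp S} (f : T' ⟶ T) (α : T ⟶ G.R) :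
    f ≫ inv G α = inv G (f ≫ α) := by simp [inv]

theorem comp_one {T T' : AlgSp.Sp S} (f : T' ⟶ T) (x : T ⟶ G.U) :
    f ≫ one G x = one G (f ≫ x) := by simp [one]

theorem mul_one {T : AlgSp.Sp S} (α : T ⟶ G.R) (x : T ⟶ G.U) (h : α ≫ G.s = one G x ≫ G.t) :
    mul G α (one G x) h = α := by
  have hx : x = α ≫ G.s := by rw [h, one_t]
  subst hx
  have := G.comp_e α
  unfold mul one
  simp only [Category.assoc] at this ⊢
  exact this

theorem one_mul {T : AlgSp.Sp S} (α : T ⟶ G.R) (x : T ⟶ G.U) (h : one G x ≫ G.s = α ≫ G.t) :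
    mul G (one G x) α h = α := by
  have hx : x = α ≫ G.t := by rw [← h, one_s]
  subst hx
  have := G.e_comp α
  unfold mul one
  simp only [Category.assoc] at this ⊢
  exact this

theorem mul_inv {T : AlgSp.Sp S} (α : T ⟶ G.R) (h : α ≫ G.s = inv G α ≫ G.t) :
    mul G α (inv G α) h = one G (α ≫ G.t) := by
  have := G.comp_i α
  unfold mul one inv
  simp only [Category.assoc] at this ⊢
  exact this

theorem inv_mul {T : AlgSp.Sp S} (α : T ⟶ G.R) (h : inv G α ≫ G.s = α ≫ G.t) :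
    mul G (inv G α) α h = one G (α ≫ G.s) := by
  have := G.i_comp α
  unfold mul one inv
  simp only [Category.assoc] at this ⊢
  exact this

/-- `α⁻¹ ∘ (α ∘ β) = β` -/
theorem inv_mul_cancel_left {T : AlgSp.Sp S} (α β : T ⟶ G.R) (h : α ≫ G.s = β ≫ G.t)
    (h' : inv G α ≫ G.s = mul G α β h ≫ G.t) :
    mul G (inv G α) (mul G α β h) h' = β := by
  rw [← mul_assoc G (inv G α) α β (inv_s G α) h]
  rw [mul_congr G _ (inv_mul G α (inv_s G α)) rfl, one_mul]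

/-- `α ∘ (α⁻¹ ∘ β) = β` -/
theorem mul_inv_cancel_left {T : AlgSp.Sp S} (α β : T ⟶ G.R) (h : inv G α ≫ G.s = β ≫ G.t)
    (h' : α ≫ G.s = mul G (inv G α) β h ≫ G.t) :
    mul G α (mul G (inv G α) β h) h' = β := by
  rw [← mul_assoc G α (inv G α) β (inv_t G α).symm h]
  rw [mul_congr G _ (mul_inv G α (inv_t G α).symm) rfl, one_mul]

/-- `(α ∘ β) ∘ β⁻¹ = α` -/
theorem mul_inv_cancel_right {T : AlgSp.Sp S} (α β : T ⟶ G.R) (h : α ≫ G.s = β ≫ G.t)
    (h' : mul G α β h ≫ G.s = inv G β ≫ G.t) :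
    mul G (mul G α β h) (inv G β) h' = α := by
  rw [mul_assoc G α β (inv G β) h (inv_t G β).symm]
  rw [mul_congr G _ rfl (mul_inv G β (inv_t G β).symm), mul_one]

/-- `(α ∘ β⁻¹) ∘ β = α` -/
theorem inv_mul_cancel_right {T : AlgSp.Sp S} (α β : T ⟶ G.R) (h : α ≫ G.s = inv G β ≫ G.t)
    (h' : mul G α (inv G β) h ≫ G.s = β ≫ G.t) :
    mul G (mul G α (inv G β) h) β h' = α := by
  rw [mul_assoc G α (inv G β) β h (inv_s G β)]
  rw [mul_congr G _ rfl (inv_mul G β (inv_s G β)), mul_one]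

/-- cancellation on the left -/
theorem mul_left_cancel {T : AlgSp.Sp S} {α β β' : T ⟶ G.R} (h : α ≫ G.s = β ≫ G.t)
    (h' : α ≫ G.s = β' ≫ G.t) (e : mul G α β h = mul G α β' h') : β = β' := by
  have h1 : inv G α ≫ G.s = mul G α β h ≫ G.t := by rw [inv_s, mul_t]
  have h2 : inv G α ≫ G.s = mul G α β' h' ≫ G.t := by rw [inv_s, mul_t]
  rw [← inv_mul_cancel_left G α β h h1, ← inv_mul_cancel_left G α β' h' h2]
  exact mul_congr G _ rfl e

theorem mul_right_cancel {T : AlgSp.Sp S} {α α' β : T ⟶ G.R} (h : α ≫ G.s = β ≫ G.t)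
    (h' : α' ≫ G.s = β ≫ G.t) (e : mul G α β h = mul G α' β h') : α = α' := by
  have h1 : mul G α β h ≫ G.s = inv G β ≫ G.t := by rw [inv_t, mul_s]
  have h2 : mul G α' β h' ≫ G.s = inv G β ≫ G.t := by rw [inv_t, mul_s]
  rw [← mul_inv_cancel_right G α β h h1, ← mul_inv_cancel_right G α' β h' h2]
  exact mul_congr G _ e rfl

theorem inv_inv {T : AlgSp.Sp S} (α : T ⟶ G.R) : inv G (inv G α) = α := by
  have h1 : inv G α ≫ G.s = α ≫ G.t := inv_s G α
  have h2 : inv G α ≫ G.s = inv G (inv G α) ≫ G.t := (inv_t G _).symm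
  apply mul_left_cancel G h2 h1
  rw [mul_inv, inv_mul, inv_t]

end K608.Gpd
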