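import Groth.Agent.AlgSp.K608.Pts
import Groth.Agent.AlgSp.K608.Gpd

/-!
# Points of pullbacks, factorisation through open subspaces, the relation of a groupoid
-/

set_option autoImplicit false
universe u
open CategoryTheory CategoryTheory.Limits AlgebraicGeometry Opposite
open AlgSp

namespace K608.Pts

variable {S : Scheme.{u}} {F G H : Sp S}

/-- Points of a fibre product of sheaves surject onto the fibre product of the sets of points. -/
theorem exists_of_isPullback {P X Y Z : Sp S} {fst : P ⟶ X} {snd : P ⟶ Y} {f : X ⟶ Z} {g : Y ⟶ Z}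
    (h : IsPullback fst snd f g) (x : Points X) (y : Points Y)
    (e : Points.map f x = Points.map g y) :
    ∃ p : Points P, Points.map fst p = x ∧ Points.map snd p = y := by
  obtain ⟨K, _, w, a, rfl⟩ := exists_pt x
  obtain ⟨L, _, w', b, rfl⟩ := exists_pt y
  rw [map_pt, map_pt, pt_eq_pt_iff] at e
  obtain ⟨Ω, _, v, i, j, hij⟩ := e
  have hij' : ((yon S).map i ≫ a) ≫ f = ((yon S).map j ≫ b) ≫ g := by
    rw [Category.assoc, Category.assoc, hij]
  refine ⟨pt (h.lift _ _ hij'), ?_, ?_⟩
  · rw [map_pt, h.lift_fst, pt_map_comp]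
  · rw [map_pt, h.lift_snd, pt_map_comp]

/-- The point of a scheme `T` hit by a field valued point of `h_T`. -/
theorem ofPt_surjective_yon {T : Over S} (x : Points ((yon S).obj T)) :
    ∃ t : ↥T.left, Points.ofPt (𝟙 _) t = x :=
  (Points.schemeEquiv T).surjective x

theorem ofPt_yon_injective {T : Over S} {t t' : ↥T.left}
    (h : Points.ofPt (𝟙 ((yon S).obj T)) t = Points.ofPt (𝟙 _) t') : t = t' :=
  (Points.schemeEquiv T).injective h

theorem ofPt_yon_map_comp {T T' : Over S} (φ : T ⟶ T') (g : (yon S).obj T' ⟶ F) (t : ↥T.left) :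
    Points.ofPt ((yon S).map φ ≫ g) t = Points.ofPt g (φ.left t) := by
  rw [← Points.map_ofPt, Points.ofPt_eq_map_ofScheme g]
  congr 1
  apply (Points.schemeEquiv T').symm.injective
  change Points.toScheme T' (Points.ofPt ((yon S).map φ) t) =
    Points.toScheme T' (Points.ofScheme T' (φ.left t))
  rw [Points.toScheme_ofPt, Points.toScheme_ofScheme]

/-- In a represented pullback, a point of the base whose image is hit comes from the fibre product. -/
theorem exists_point_of_isPullback_yon {T V : Over S} {X Z : Sp S} {fst : (yon S).obj V ⟶ X}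
    {snd : V ⟶ T} {f : X ⟶ Z} {g : (yon S).obj T ⟶ Z}
    (h : IsPullback fst ((yon S).map snd) f g) (t : ↥T.left)
    (ht : Points.ofPt g t ∈ Set.range (Points.map f)) :
    ∃ v : ↥V.left, snd.left v = t := by
  obtain ⟨x, hx⟩ := ht
  obtain ⟨p, hp1, hp2⟩ := exists_of_isPullback h x (Points.ofPt (𝟙 _) t)
    (by rw [hx, Points.map_ofPt, Category.id_comp])
  obtain ⟨v, rfl⟩ := ofPt_surjective_yon p
  refine ⟨v, ?_⟩
  apply ofPt_yon_injective
  rw [← hp2, Points.map_ofPt, Category.id_comp, ← Category.comp_id ((yon S).map snd),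
    ofPt_yon_map_comp]

/-- Factorisation through an open subspace is a condition on points. -/
theorem factors_iff_of_isOpenImmersion {W X : Sp S} {w : W ⟶ X} (hw : RepWith @IsOpenImmersion w)
    {T : Over S} (g : (yon S).obj T ⟶ X) :
    (∃ a : (yon S).obj T ⟶ W, a ≫ w = g) ↔
      ∀ t : ↥T.left, Points.ofPt g t ∈ Set.range (Points.map w) := by
  constructor
  · rintro ⟨a, rfl⟩ t
    exact ⟨Points.ofPt a t, Points.map_ofPt _ _ _⟩
  · intro h
    obtain ⟨V, snd, fst, sq⟩ := hw.1 g
    have ho : IsOpenImmersion snd.left := hw.2 g fst snd sq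
    have hs : Surjective snd.left := ⟨fun t => exists_point_of_isPullback_yon sq t (h t)⟩
    have hi : IsIso snd.left := by
      have : Epi snd.left.base := (TopCat.epi_iff_surjective _).2 hs.surj
      exact IsOpenImmersion.isIso snd.left
    have : IsIso ((Over.forget S).map snd) := hi
    have : IsIso snd := isIso_of_reflects_iso snd (Over.forget S)
    refine ⟨inv ((yon S).map snd) ≫ fst, ?_⟩
    rw [Category.assoc, sq.w, IsIso.inv_hom_id_assoc]

end K608.Pts

namespace K608.Gpd

variable {S : Scheme.{u}} {B : AlgSp.Sp S} (G : AlgSp.GroupoidSp B)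

/-- The source and target maps of a groupoid are a pre-equivalence relation. -/
theorem isPreEqvRelSp : AlgSp.IsPreEqvRelSp G.s G.t := by
  intro T
  refine ⟨?_, ?_, ?_⟩
  · intro a
    exact ⟨one G a, one_t G a, one_s G a⟩
  · rintro a b ⟨r, rfl, rfl⟩
    exact ⟨inv G r, inv_t G r, inv_s G r⟩
  · rintro a b c ⟨r, rfl, h⟩ ⟨r', h', rfl⟩
    exact ⟨mul G r r' (by rw [h, h']), mul_t G _ _ _, mul_s G _ _ _⟩

end K608.Gpd
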