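import Groth.Agent.AlgSp.K608.Comp
import Groth.Agent.AlgSp.K608.Pts2
import Groth.Agent.AlgSp.K608.OpenEmb
import Groth.Agent.AlgSp.K613.Chart
import Groth.Agent.AlgSp.K595.DescInst
import Groth.Agent.AlgSp.K595.DiagRel
import Groth.Agent.AlgSp.K619.EtField
import Groth.Agent.AlgSp.K609.Loc
import Mathlib.AlgebraicGeometry.Morphisms.QuasiFinite
import Mathlib.AlgebraicGeometry.Morphisms.Finite

/-!
# Sections of a decent algebraic space over a field are closed immersions
-/

set_option autoImplicit false
universe u
open CategoryTheory CategoryTheory.Limits AlgebraicGeometry Opposite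
open AlgSp

namespace K608.DecSec

variable {S : Scheme.{u}}

/-- Two maps `h_{Spec K} ⟶ X` to a sheaf with representable diagonal that agree on a field extension
are equal. -/
theorem eq_of_field {X : Sp S} (hX : Representable (Limits.diag X)) {K Ω : Type u} [Field K]
    [Field Ω] {w : Spec (CommRingCat.of K) ⟶ S} {v : Spec (CommRingCat.of Ω) ⟶ S}
    (a b : (yon S).obj (Over.mk w) ⟶ X) (i : Over.mk v ⟶ Over.mk w)
    (h : (yon S).map i ≫ a = (yon S).map i ≫ b) : a = b := by
  obtain ⟨E, e, he⟩ := K613.Chart.representable_diag_iff.1 hX _ a b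
  obtain ⟨r, hr, -⟩ := he.lift _ i h
  have hne : Nonempty E.left := ⟨r.left (IsLocalRing.closedPoint Ω)⟩
  have hm : Mono e := he.mono
  have hm' : Mono e.left := inferInstance
  have hi : IsIso e.left := K619.EtField.isIso_of_mono_field (K := K) (T := E.left) e.left
  have : IsIso ((Over.forget S).map e) := hi
  have : IsIso e := isIso_of_reflects_iso e (Over.forget S)
  rw [← cancel_epi ((yon S).map e)]
  exact he.w

/-- A section of a decent algebraic space over a field is quasi-compact. -/
theorem repWith_quasiCompact_section {X : Sp S} (hX : IsAlgSpace X) (hd : IsDecent X)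
    {k : Type u} [Field k] {σ : Spec (CommRingCat.of k) ⟶ S}
    (f : X ⟶ (yon S).obj (Over.mk σ)) (e : (yon S).obj (Over.mk σ) ⟶ X)
    (he : e ≫ f = 𝟙 _) : RepWith @QuasiCompact e := by
  obtain ⟨p, hp, hm, hq⟩ := hd (K608.Pts.pt e)
  obtain ⟨π, hπ⟩ : ∃ π, π = p.toHom := ⟨_, rfl⟩
  have hp' : K608.Pts.pt π = K608.Pts.pt e := by
    rw [← hp, hπ]
    unfold K608.Pts.pt
    rw [K608.Pts.ofHom_toHom]
  rw [← hπ] at hm hq
  -- `π` factors through the section
  have h1 : (π ≫ f) ≫ e = π := by
    rw [K608.Pts.pt_eq_pt_iff] at hp'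
    obtain ⟨Ω, _, v, a, b, hab⟩ := hp'
    refine eq_of_field hX.diag _ _ a ?_
    rw [Category.assoc, ← Category.assoc, hab, Category.assoc, ← Category.assoc e, he,
      Category.id_comp]
  have hmc : Mono (π ≫ f) := by
    have : Mono ((π ≫ f) ≫ e) := by rw [h1]; exact hm
    exact mono_of_mono (π ≫ f) e
  obtain ⟨c, hc⟩ := (yon S).map_surjective (π ≫ f)
  have hmc' : Mono c := by
    have : Mono ((yon S).map c) := by rw [hc]; exact hmc
    exact (yon S).mono_of_mono_map this
  have hcl : Mono c.left := inferInstance
  have hne : Nonempty p.pt.left := ⟨IsLocalRing.closedPoint p.K⟩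
  have hi : IsIso c.left := K619.EtField.isIso_of_mono_field (K := k) (T := p.pt.left) c.left
  have : IsIso ((Over.forget S).map c) := hi
  have : IsIso c := isIso_of_reflects_iso c (Over.forget S)
  have h2 : e = inv ((yon S).map c) ≫ π := by
    rw [IsIso.eq_inv_comp, hc, h1]
  rw [h2]
  exact MorphismProperty.RespectsIso.precomp _ _ _ hq

/-- A monomorphism to an affine scheme over a field with source quasi-compact étale over the field
is a closed immersion. -/
theorem isClosedImmersion_of_mono_etale {k : Type u} [Field k] {F T : Scheme.{u}} [IsAffine T]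
    (i : F ⟶ T) [Mono i] [QuasiCompact i] (t : T ⟶ Spec (CommRingCat.of k)) [Etale (i ≫ t)] :
    IsClosedImmersion i := by
  have h1 : LocallyQuasiFinite (i ≫ t) := K619.EtField.locallyQuasiFinite_of_etale _
  have h2 : QuasiCompact (i ≫ t) := inferInstance
  have h3 : IsFinite (i ≫ t) := IsFinite.of_locallyQuasiFinite _
  have h4 : IsFinite i := MorphismProperty.of_postcomp (W := @IsFinite) (W' := @IsSeparated) i t
    inferInstance h3
  exact (IsClosedImmersion.iff_isFinite_and_mono i).2 ⟨h4, inferInstance⟩

/-- A section of a decent algebraic space over a field is a closed immersion. -/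
theorem repWith_isClosedImmersion_section {X : Sp S} (hX : IsAlgSpace X) (hd : IsDecent X)
    {k : Type u} [Field k] {σ : Spec (CommRingCat.of k) ⟶ S}
    (f : X ⟶ (yon S).obj (Over.mk σ)) (e : (yon S).obj (Over.mk σ) ⟶ X)
    (he : e ≫ f = 𝟙 _) : RepWith @IsClosedImmersion e := by
  have hq := repWith_quasiCompact_section hX hd f e he
  obtain ⟨U, a, ha, has⟩ := hX.atlas
  obtain ⟨F, snd, fst, sq⟩ := hq.1 a
  have := K595.DescInst.isClosedImmersion.{u}
  refine K609.Loc.repWith_of_desc @IsClosedImmersion K595.RepDesc.Fppf hq.1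
    (K595.RepDesc.repWith_fppf ha has) sq ?_
  refine (repWith_yon_map_iff _ _).2 ?_
  -- now a scheme level statement
  have hqc : QuasiCompact snd.left := hq.2 a fst snd sq
  obtain ⟨φ, hφ⟩ := (yon S).map_surjective (a ≫ f)
  obtain ⟨ψ, rfl⟩ := (yon S).map_surjective fst
  have het : Etale ψ.left := ha.2 e ((yon S).map snd) ψ sq.flip
  have hw : snd ≫ φ = ψ := by
    apply (yon S).map_injective
    rw [Functor.map_comp, hφ, ← Category.assoc, ← sq.w, Category.assoc, he, Category.comp_id]
  have hem : Mono e := by
    have : Mono (e ≫ f) := by rw [he]; infer_instance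
    exact mono_of_mono e f
  have hms : Mono ((yon S).map snd) := (MorphismProperty.monomorphisms _).of_isPullback sq hem
  have hms' : Mono snd := (yon S).mono_of_mono_map hms
  have hms2 : Mono snd.left := inferInstance
  change IsClosedImmersion snd.left
  rw [IsZariskiLocalAtTarget.iff_of_openCover (P := @IsClosedImmersion) U.left.affineCover]
  intro i
  let T := U.left.affineCover.X i
  let j : T ⟶ U.left := U.left.affineCover.f i
  change IsClosedImmersion (pullback.snd snd.left j)
  have haff : IsAffine T := inferInstanceAs (IsAffine (U.left.affineCover.X i))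
  have hcomp : pullback.snd snd.left j ≫ j ≫ φ.left = pullback.fst snd.left j ≫ ψ.left := by
    rw [← Category.assoc, ← pullback.condition, Category.assoc, ← hw, Over.comp_left]
  have : Etale (pullback.snd snd.left j ≫ (j ≫ φ.left : T ⟶ Spec (CommRingCat.of k))) := by
    have h : Etale (pullback.fst snd.left j ≫ ψ.left) := inferInstance
    rw [← hcomp] at h
    exact h
  exact isClosedImmersion_of_mono_etale (pullback.snd snd.left j) (j ≫ φ.left)

end K608.DecSec
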