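import Groth.Prelude.Def_AlgSp4
import Groth.Agent.AlgSp.K608.Pts2
import Mathlib.AlgebraicGeometry.Morphisms.Flat

/-!
# Morphisms to spectra of fields; closure properties of `IsUnivOpenMor`, `IsAffineMor`, `IsSurjectiveMor`
-/

set_option autoImplicit false
universe u
open CategoryTheory CategoryTheory.Limits AlgebraicGeometry Opposite
open AlgSp

namespace K608.Field

variable {S : Scheme.{u}}

instance : MorphismProperty.HasOfPostcompProperty @Flat.{u} @Etale.{u} := by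
  refine MorphismProperty.hasOfPostcompProperty_iff_le_diagonal.2 ?_
  intro X Y f hf
  have : Etale f := hf
  change Flat (pullback.diagonal f)
  infer_instance

/-- Any morphism to a scheme étale over a field is flat. -/
theorem flat_of_etale_over_field {U V : Scheme.{u}} {k : Type u} [Field k] (h : U ⟶ V)
    (v : V ⟶ Spec (CommRingCat.of k)) [Etale v] : Flat h :=
  MorphismProperty.of_postcomp (W := @Flat) (W' := @Etale) h v inferInstance (by
    change Flat (h ≫ v)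
    infer_instance)

theorem locP_flat_to_field {k : Type u} [Field k] {str : Spec (CommRingCat.of k) ⟶ S} {X : Sp S}
    (f : X ⟶ (yon S).obj (Over.mk str)) : LocP @Flat f := by
  intro U V a b h ha hb e
  obtain ⟨φ, rfl⟩ := (yon S).map_surjective b
  have : Etale φ.left := (repWith_yon_map_iff _ _).1 hb
  exact flat_of_etale_over_field h.left φ.left

/-! ### Invariance of `LocP` under isomorphisms -/

theorem LocP.comp_iso_left {P : MorphismProperty Scheme.{u}} {F F' G : Sp S} (e : F' ≅ F)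
    {f : F ⟶ G} (hf : LocP P f) : LocP P (e.hom ≫ f) := by
  intro U V a b h ha hb w
  exact hf (a ≫ e.hom) b h (MorphismProperty.RespectsIso.postcomp _ _ _ ha) hb
    (by rw [Category.assoc, w])

theorem LocP.comp_iso_right {P : MorphismProperty Scheme.{u}} {F G G' : Sp S} {f : F ⟶ G}
    (e : G ≅ G') (hf : LocP P f) : LocP P (f ≫ e.hom) := by
  intro U V a b h ha hb w
  exact hf a (b ≫ e.inv) h ha (MorphismProperty.RespectsIso.postcomp _ _ _ hb)
    (by rw [← Category.assoc, ← w]; simp)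

/-! ### `IsSurjectiveMor` -/

theorem isSurjectiveMor_of_isPullback {P X Y Z : Sp S} {fst : P ⟶ X} {snd : P ⟶ Y} {f : X ⟶ Z}
    {g : Y ⟶ Z} (h : IsPullback fst snd f g) (hf : IsSurjectiveMor f) : IsSurjectiveMor snd := by
  intro y
  obtain ⟨x, hx⟩ := hf (Points.map g y)
  obtain ⟨p, -, hp⟩ := K608.Pts.exists_of_isPullback h x y hx
  exact ⟨p, hp⟩

theorem isSurjectiveMor_comp {X Y Z : Sp S} {f : X ⟶ Y} {g : Y ⟶ Z} (hf : IsSurjectiveMor f)
    (hg : IsSurjectiveMor g) : IsSurjectiveMor (f ≫ g) := by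
  intro z
  obtain ⟨y, rfl⟩ := hg z
  obtain ⟨x, rfl⟩ := hf y
  exact ⟨x, Points.map_comp _ _ _⟩

theorem isSurjectiveMor_of_comp {X Y Z : Sp S} {f : X ⟶ Y} {g : Y ⟶ Z}
    (hg : IsSurjectiveMor (f ≫ g)) : IsSurjectiveMor g := by
  intro z
  obtain ⟨y, rfl⟩ := hg z
  exact ⟨Points.map f y, (Points.map_comp _ _ _).symm⟩

theorem isSurjectiveMor_of_section {X Y : Sp S} {f : X ⟶ Y} {g : Y ⟶ X} (h : g ≫ f = 𝟙 Y) :
    IsSurjectiveMor f := by
  apply isSurjectiveMor_of_comp (f := g)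
  rw [h]
  intro y
  exact ⟨y, Points.map_id y⟩

/-! ### `UnivSp` -/

theorem univSp_of_isPullback {Q : MorphismProperty (Sp S)} {P X Y Z : Sp S} {fst : P ⟶ X}
    {snd : P ⟶ Y} {f : X ⟶ Z} {g : Y ⟶ Z} (h : IsPullback fst snd f g) (hf : UnivSp Q f) :
    UnivSp Q snd := by
  intro T T' hT t a b sq
  exact hf hT (t ≫ g) (a ≫ fst) b (sq.paste_horiz h)

theorem isUnivOpenMor_of_isPullback {P X Y Z : Sp S} {fst : P ⟶ X}
    {snd : P ⟶ Y} {f : X ⟶ Z} {g : Y ⟶ Z} (h : IsPullback fst snd f g) (hf : IsUnivOpenMor f) :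
    IsUnivOpenMor snd := univSp_of_isPullback h hf

theorem isUnivOpenMor_comp_iso_left {F F' G : Sp S} (e : F' ≅ F)
    {f : F ⟶ G} (hf : IsUnivOpenMor f) : IsUnivOpenMor (e.hom ≫ f) :=
  isUnivOpenMor_of_isPullback (fst := e.hom) (g := 𝟙 G) (IsPullback.of_horiz_isIso ⟨by simp⟩) hf

theorem isOpenMor_of_isUnivOpenMor {F G : Sp S} {f : F ⟶ G} (hG : IsAlgSpace G)
    (hf : IsUnivOpenMor f) : IsOpenMor f :=
  hf hG (𝟙 G) (𝟙 F) f (IsPullback.of_horiz_isIso ⟨by simp⟩)

/-! ### `IsAffineMor` -/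

theorem isAffineMor_of_isPullback {P X Y Z : Sp S} {fst : P ⟶ X} {snd : P ⟶ Y} {f : X ⟶ Z}
    {g : Y ⟶ Z} (h : IsPullback fst snd f g) (hf : IsAffineMor f) : IsAffineMor snd := by
  intro T hT t
  obtain ⟨W, i, a, sq, hW⟩ := hf hT (t ≫ g)
  have sq' : IsPullback (h.lift a ((yon S).map i ≫ t) (by rw [sq.w, Category.assoc]))
      ((yon S).map i) snd t := by
    refine IsPullback.of_right (h₁₂ := fst) (v₁₃ := f) (h₂₂ := g) ?_ ?_ h
    · rw [h.lift_fst]; exact sq
    · rw [h.lift_snd]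
  exact ⟨W, i, _, sq', hW⟩

theorem isAffineMor_comp {X Y Z : Sp S} {f : X ⟶ Y} {g : Y ⟶ Z} (hf : IsAffineMor f)
    (hg : IsAffineMor g) : IsAffineMor (f ≫ g) := by
  intro T hT t
  obtain ⟨V, i, a, sq, hV⟩ := hg hT t
  obtain ⟨W, j, b, sq', hW⟩ := hf hV a
  refine ⟨W, j ≫ i, b, ?_, hW⟩
  rw [Functor.map_comp]
  exact sq'.paste_vert sq

end K608.Field
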