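import Groth.Agent.S9874
import Groth.Agent.AlgSp.K608.Field

/-!
# Fibre products of algebraic spaces; composition of universally open morphisms
-/

set_option autoImplicit false
universe u
open CategoryTheory CategoryTheory.Limits AlgebraicGeometry Opposite
open AlgSp

namespace K608.Comp

variable {S : Scheme.{u}}

/-- Fibre products of algebraic spaces (in sheaves) are algebraic spaces. -/
theorem isAlgSpace_of_isPullback {P X Y Z : Sp S} {fst : P ⟶ X} {snd : P ⟶ Y} {f : X ⟶ Z}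
    {g : Y ⟶ Z} (h : IsPullback fst snd f g) (hX : IsAlgSpace X) (hY : IsAlgSpace Y)
    (hZ : IsAlgSpace Z) : IsAlgSpace P :=
  Groth.Agent.S9874.result S Z hZ.diag ⟨X, hX⟩ ⟨Y, hY⟩ f g P fst snd h

theorem isAlgSpace_pullback {X Y Z : Sp S} (f : X ⟶ Z)
    (g : Y ⟶ Z) (hX : IsAlgSpace X) (hY : IsAlgSpace Y)
    (hZ : IsAlgSpace Z) : IsAlgSpace (pullback f g) :=
  isAlgSpace_of_isPullback (IsPullback.of_hasPullback f g) hX hY hZ

theorem isUnivOpenMor_comp {X Y Z : Sp S} {f : X ⟶ Y} {g : Y ⟶ Z} (hY : IsAlgSpace Y)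
    (hZ : IsAlgSpace Z) (hf : IsUnivOpenMor f) (hg : IsUnivOpenMor g) : IsUnivOpenMor (f ≫ g) := by
  intro T T' hT t a b sq
  have sq2 := IsPullback.of_hasPullback g t
  have hP : IsAlgSpace (pullback g t) := isAlgSpace_of_isPullback sq2 hY hT hZ
  have w : (a ≫ f) ≫ g = b ≫ t := by rw [Category.assoc, sq.w]
  have sq3 : IsPullback a (sq2.lift (a ≫ f) b w) f (pullback.fst g t) := by
    refine IsPullback.of_bot (h₃₁ := t) (v₂₁ := pullback.snd g t) (v₂₂ := g) ?_ ?_ sq2.flip.flip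
    · rw [sq2.lift_snd]; exact sq
    · rw [sq2.lift_fst]
  have h1 : IsOpenMor (sq2.lift (a ≫ f) b w) := hf hP _ _ _ sq3
  have h2 : IsOpenMor (pullback.snd g t) := hg hT _ _ _ sq2
  have h3 : b = sq2.lift (a ≫ f) b w ≫ pullback.snd g t := (sq2.lift_snd _ _ _).symm
  rw [h3]
  intro O hO
  have : Points.map (sq2.lift (a ≫ f) b w ≫ pullback.snd g t) '' O =
      Points.map (pullback.snd g t) '' (Points.map (sq2.lift (a ≫ f) b w) '' O) := by
    rw [← Set.image_comp]
    congr 1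
    funext x
    exact Points.map_comp _ _ _
  rw [this]
  exact h2 _ (h1 _ hO)

end K608.Comp
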