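import Groth.Agent.AlgSp.K608.GpdSq

/-!
# The stabilizer of a groupoid: cartesian squares
-/

set_option autoImplicit false
universe u
open CategoryTheory CategoryTheory.Limits AlgebraicGeometry Opposite
open AlgSp

namespace K608.Gpd

variable {S : Scheme.{u}} {B : AlgSp.Sp S} (G : AlgSp.GroupoidSp B)

theorem isPullback_stabilizer : IsPullback G.stabilizerι G.stabilizerToU G.j G.diag :=
  IsPullback.of_hasPullback _ _

theorem diag_fst : G.diag ≫ pullback.fst G.pU G.pU = 𝟙 G.U := pullback.lift_fst _ _ _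
theorem diag_snd : G.diag ≫ pullback.snd G.pU G.pU = 𝟙 G.U := pullback.lift_snd _ _ _

theorem stabilizer_t : G.stabilizerι ≫ G.t = G.stabilizerToU := by
  rw [← AlgSp.GroupoidSp.j_fst, ← Category.assoc, (isPullback_stabilizer G).w, Category.assoc,
    diag_fst, Category.comp_id]

theorem stabilizer_s : G.stabilizerι ≫ G.s = G.stabilizerToU := by
  rw [← AlgSp.GroupoidSp.j_snd, ← Category.assoc, (isPullback_stabilizer G).w, Category.assoc,
    diag_snd, Category.comp_id]

theorem stabilizer_hom_ext {T : Sp S} {a b : T ⟶ G.stabilizer}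
    (h : a ≫ G.stabilizerι = b ≫ G.stabilizerι) : a = b := by
  apply (isPullback_stabilizer G).hom_ext h
  rw [← stabilizer_t, ← Category.assoc, h, Category.assoc]

/-- A morphism to the stabilizer is an arrow with equal source and target. -/
theorem exists_toStabilizer {T : Sp S} (a : T ⟶ G.R) (h : a ≫ G.s = a ≫ G.t) :
    ∃ b : T ⟶ G.stabilizer, b ≫ G.stabilizerι = a := by
  have w : a ≫ G.j = (a ≫ G.t) ≫ G.diag := by
    apply pullback.hom_ext
    · rw [Category.assoc, AlgSp.GroupoidSp.j_fst, Category.assoc, diag_fst, Category.comp_id]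
    · rw [Category.assoc, AlgSp.GroupoidSp.j_snd, Category.assoc, diag_snd, Category.comp_id, h]
  exact ⟨(isPullback_stabilizer G).lift a (a ≫ G.t) w, (isPullback_stabilizer G).lift_fst _ _ _⟩

theorem eG_toU {eG : G.U ⟶ G.stabilizer} (heG : eG ≫ G.stabilizerι = G.e) :
    eG ≫ G.stabilizerToU = 𝟙 G.U := by
  rw [← stabilizer_t, ← Category.assoc, heG, G.e_t]

theorem j_eq_iff {T : Sp S} (a b : T ⟶ G.R) :
    a ≫ G.j = b ≫ G.j ↔ a ≫ G.t = b ≫ G.t ∧ a ≫ G.s = b ≫ G.s := by
  constructor
  · intro h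
    have h1 := congrArg (· ≫ pullback.fst G.pU G.pU) h
    have h2 := congrArg (· ≫ pullback.snd G.pU G.pU) h
    simp only [Category.assoc, AlgSp.GroupoidSp.j_fst, AlgSp.GroupoidSp.j_snd] at h1 h2
    exact ⟨h1, h2⟩
  · rintro ⟨h1, h2⟩
    apply pullback.hom_ext
    · rw [Category.assoc, AlgSp.GroupoidSp.j_fst, h1, Category.assoc, AlgSp.GroupoidSp.j_fst]
    · rw [Category.assoc, AlgSp.GroupoidSp.j_snd, h2, Category.assoc, AlgSp.GroupoidSp.j_snd]

/-- The map `(r₁, r₂) ↦ r₁⁻¹ ∘ r₂` from `R ×_{U ×_B U} R` to the stabilizer. -/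
theorem exists_diff :
    ∃ δ : pullback G.j G.j ⟶ G.stabilizer,
      ∀ (h : inv G (pullback.fst G.j G.j) ≫ G.s = pullback.snd G.j G.j ≫ G.t),
        δ ≫ G.stabilizerι = mul G (inv G (pullback.fst G.j G.j)) (pullback.snd G.j G.j) h := by
  have h0 := (j_eq_iff G (pullback.fst G.j G.j) (pullback.snd G.j G.j)).1 pullback.condition
  have h1 : inv G (pullback.fst G.j G.j) ≫ G.s = pullback.snd G.j G.j ≫ G.t := by
    rw [inv_s, h0.1]
  obtain ⟨δ, hδ⟩ := exists_toStabilizer G
    (mul G (inv G (pullback.fst G.j G.j)) (pullback.snd G.j G.j) h1)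
    (by rw [mul_s, mul_t, inv_t, h0.2])
  exact ⟨δ, fun _ => hδ⟩

/-- The diagonal of `j` is a base change of the unit section of the stabilizer. -/
theorem exists_isPullback_diagonal_j {eG : G.U ⟶ G.stabilizer}
    (heG : eG ≫ G.stabilizerι = G.e) :
    ∃ δ : pullback G.j G.j ⟶ G.stabilizer,
      IsPullback G.s (pullback.diagonal G.j) eG δ := by
  obtain ⟨δ, hδ⟩ := exists_diff G
  have h0 := (j_eq_iff G (pullback.fst G.j G.j) (pullback.snd G.j G.j)).1 pullback.condition
  have h1 : inv G (pullback.fst G.j G.j) ≫ G.s = pullback.snd G.j G.j ≫ G.t := by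
    rw [inv_s, h0.1]
  specialize hδ h1
  refine ⟨δ, isPullback_of_exists_unique ?_ ?_ ?_⟩
  · apply stabilizer_hom_ext
    rw [Category.assoc, heG, Category.assoc, hδ, comp_mul]
    rw [mul_congr G _ (show pullback.diagonal G.j ≫ inv G (pullback.fst G.j G.j) = inv G (𝟙 G.R) by
      rw [comp_inv, pullback.diagonal_fst]) (pullback.diagonal_snd G.j), inv_mul,
      Category.id_comp]
    rfl
  · intro T a b h
    have h2 : b ≫ mul G (inv G (pullback.fst G.j G.j)) (pullback.snd G.j G.j) h1 = one G a := by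
      rw [← hδ, ← Category.assoc, ← h, Category.assoc, heG]
      rfl
    rw [comp_mul] at h2
    have h3 : inv G (b ≫ pullback.fst G.j G.j) ≫ G.s = (b ≫ pullback.fst G.j G.j) ≫ G.t := inv_s G _
    -- `b₁ = b₂`
    have ha : a = (b ≫ pullback.fst G.j G.j) ≫ G.s := by
      have := congrArg (· ≫ G.t) h2
      simp only [mul_t, one_t] at this
      rw [← this, comp_inv, inv_t]
    have e : b ≫ pullback.fst G.j G.j = b ≫ pullback.snd G.j G.j := by
      have h4 : inv G (b ≫ pullback.fst G.j G.j) ≫ G.s = (b ≫ pullback.snd G.j G.j) ≫ G.t := by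
        rw [inv_s, Category.assoc, h0.1, Category.assoc]
      refine mul_left_cancel G h3 h4 ?_
      rw [inv_mul, ← ha, ← h2]
      exact mul_congr G _ (comp_inv G _ _).symm rfl
    refine ⟨b ≫ pullback.fst G.j G.j, ha.symm, ?_⟩
    apply pullback.hom_ext
    · rw [Category.assoc, pullback.diagonal_fst, Category.comp_id]
    · rw [Category.assoc, pullback.diagonal_snd, Category.comp_id, e]
  · intro T l l' _ h2
    have := congrArg (· ≫ pullback.fst G.j G.j) h2
    simpa only [Category.assoc, pullback.diagonal_fst, Category.comp_id] using this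

end K608.Gpd
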