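import Groth.Agent.AlgSp.K608.BigPts
import Groth.Agent.AlgSp.K608.GrpGpd
import Groth.Agent.AlgSp.K608.Gpd
import Groth.Agent.AlgSp.K608.SepAbs
import Groth.Agent.AlgSp.K625.Prod
import Groth.Agent.AlgSp.K642.ColimEt
import Groth.Agent.S10197
import Groth.Agent.S10200
import Groth.Agent.S10463
import Groth.Agent.AlgSp.K608.Comp
import Groth.Agent.AlgSp.K608.OpenEmb
import Groth.Agent.AlgSp.K610.ZarGlue
import Groth.Agent.AlgSp.K598.RepKit

/-!
# Separated group algebraic spaces over a field become schemes over the algebraic closure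
-/

set_option autoImplicit false
universe u
open CategoryTheory CategoryTheory.Limits AlgebraicGeometry Opposite Topology
open AlgSp
open K625.Fld (fld bcs)

namespace K608.GrpSch

open K608.Gpd

variable {k : Type u} [Field k]

theorem isSeparatedSp_base (S : Scheme.{u}) : IsSeparatedSp ((yon S).obj (Over.mk (𝟙 S))) := by
  have ht := K625.Prod.isTerminalBase S
  have : IsIso (Limits.diag ((yon S).obj (Over.mk (𝟙 S)))) :=
    ⟨prod.fst, prod.lift_fst _ _, Limits.prod.hom_ext (ht.hom_ext _ _) (ht.hom_ext _ _)⟩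
  exact MorphismProperty.of_isIso (RepWith @IsClosedImmersion) _

theorem isSeparatedSp_yon {S : Scheme.{u}} (T : Over S) [IsSeparated T.hom] :
    IsSeparatedSp ((yon S).obj T) := by
  refine K608.SepAbs.isSeparatedSp_of_isSeparatedMor ((yon S).map (K625.Prod.toBase T)) ?_
    (isSeparatedSp_base S)
  rw [isSeparatedMor_yon_map_iff]
  assumption

theorem isQuasiSeparatedSp_of_isSeparatedSp {S : Scheme.{u}} {X : Sp S} (hX : IsSeparatedSp X) :
    IsQuasiSeparatedSp X :=
  K598.RepKit.repWith_mono (fun _ _ _ h => by have : IsClosedImmersion _ := h; infer_instance) hX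

/-- the base change to `K` of a separated space is separated -/
theorem isSeparatedSp_bcs {X : Sp (Spec (CommRingCat.of k))} (hX : IsSeparatedSp X) (K : Type u) [Field K]
    [Algebra k K] : IsSeparatedSp (bcs X K) := by
  have h1 : IsSeparatedMor ((K625.Prod.isTerminalBase (Spec (CommRingCat.of k))).from X) :=
    K608.SepAbs.isSeparatedMor_of_isSeparatedSp _ hX
  have h2 : IsSeparatedMor (prod.snd : bcs X K ⟶ (yon _).obj (fld k K)) :=
    MorphismProperty.of_isPullback (P := IsSeparatedMor) (K625.Prod.isPullback_prod X ((yon _).obj (fld k K))) h1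
  have h3 : IsSeparated (fld k K).hom := by
    change IsSeparated (Spec.map _)
    infer_instance
  exact K608.SepAbs.isSeparatedSp_of_isSeparatedMor _ h2 (isSeparatedSp_yon _)

section Trans

variable {S : Scheme.{u}} {B : Sp S} (G : GroupoidSp B) (hU : IsTerminal G.U)

/-- multiplication when the object space is terminal -/
noncomputable def m {Z : Sp S} (α β : Z ⟶ G.R) : Z ⟶ G.R := mul G α β (hU.hom_ext _ _)

theorem comp_m {Z Z' : Sp S} (f : Z' ⟶ Z) (α β : Z ⟶ G.R) : f ≫ m G hU α β = m G hU (f ≫ α) (f ≫ β) :=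
  comp_mul G f α β _

theorem m_m_inv {Z : Sp S} (α β : Z ⟶ G.R) : m G hU (m G hU α β) (inv G β) = α :=
  mul_inv_cancel_right G α β _ _

theorem m_inv_m {Z : Sp S} (α β : Z ⟶ G.R) : m G hU (m G hU α (inv G β)) β = α :=
  inv_mul_cancel_right G α β _ _

theorem m_inv_m_left {Z : Sp S} (α β : Z ⟶ G.R) : m G hU α (m G hU (inv G α) β) = β :=
  mul_inv_cancel_left G α β _ _

variable {T : Sp S} (h : T ⟶ G.R)

/-- translation of `R ⨯ T` by a `T`-point -/
noncomputable def trans : G.R ⨯ T ⟶ G.R ⨯ T := prod.lift (m G hU prod.fst (prod.snd ≫ h)) prod.snd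

theorem comp_trans {Z : Sp S} (f : Z ⟶ G.R ⨯ T) :
    f ≫ trans G hU h = prod.lift (m G hU (f ≫ prod.fst) (f ≫ prod.snd ≫ h)) (f ≫ prod.snd) := by
  apply Limits.prod.hom_ext
  · rw [Category.assoc, trans, prod.lift_fst, prod.lift_fst, comp_m]
  · rw [Category.assoc, trans, prod.lift_snd, prod.lift_snd]

/-- translation is an isomorphism -/
noncomputable def transIso : G.R ⨯ T ≅ G.R ⨯ T where
  hom := trans G hU h
  inv := trans G hU (inv G h)
  hom_inv_id := by
    apply Limits.prod.hom_ext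
    · rw [comp_trans, prod.lift_fst, trans, prod.lift_fst, ← Category.assoc, prod.lift_snd, comp_inv,
        m_m_inv, Category.id_comp]
    · rw [comp_trans, prod.lift_snd, trans, prod.lift_snd, Category.id_comp]
  inv_hom_id := by
    apply Limits.prod.hom_ext
    · rw [comp_trans, prod.lift_fst, trans, prod.lift_fst, ← Category.assoc, prod.lift_snd, comp_inv,
        m_inv_m, Category.id_comp]
    · rw [comp_trans, prod.lift_snd, trans, prod.lift_snd, Category.id_comp]

theorem lift_trans (g : T ⟶ G.R) :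
    prod.lift g (𝟙 T) ≫ trans G hU h = prod.lift (m G hU g h) (𝟙 T) := by
  rw [comp_trans, prod.lift_fst, prod.lift_snd, ← Category.assoc, prod.lift_snd, Category.id_comp]

end Trans

/-- `X_K` is a scheme for a large algebraically closed field `K`. -/
theorem exists_isRepresentable (G : Over ((yon (Spec (CommRingCat.of k))).obj
    (Over.mk (𝟙 (Spec (CommRingCat.of k)))))) [GrpObj G] (hG : IsAlgSpace G.left)
    (hsep : IsSeparatedSp G.left) :
    ∃ (K : Type u) (_ : Field K) (_ : Algebra k K), (bcs G.left K).obj.IsRepresentable := by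
  obtain ⟨K, _, _, hK, hpts⟩ := K608.BigPts.exists_rational G.left hG
  refine ⟨K, inferInstance, inferInstance, ?_⟩
  let 𝒢 : GroupoidSp ((yon (Spec (CommRingCat.of k))).obj (Over.mk (𝟙 (Spec (CommRingCat.of k))))) :=
    K608.GrpGpd.ofGrp G
  have hU : IsTerminal 𝒢.U := K625.Prod.isTerminalBase (Spec (CommRingCat.of k))
  have hXK : IsAlgSpace (bcs G.left K) :=
    K608.Comp.isAlgSpace_of_isPullback (K625.Prod.isPullback_prod G.left ((yon _).obj (fld k K))) hG
      (IsAlgSpace.yon_obj _) (IsAlgSpace.yon_obj _)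
  have hsK := isSeparatedSp_bcs hsep K
  have hqs : IsQuasiSeparatedSp (bcs G.left K) := isQuasiSeparatedSp_of_isSeparatedSp hsK
  obtain ⟨X', j, hj, hrep, hmax⟩ := Groth.Agent.S10197.result ⟨bcs G.left K, hXK⟩
  obtain ⟨X₁, j₁, hj₁, hrep₁, hdense, -⟩ := Groth.Agent.S10200.result ⟨bcs G.left K, hXK⟩
    ⟨PUnit, fun _ => ⟨bcs G.left K, hXK⟩, fun _ => 𝟙 _,
      ⟨fun _ => MorphismProperty.id_mem (RepWith @IsOpenImmersion) _, fun x => ⟨⟨⟩, x, Points.map_id x⟩⟩,
      fun _ => hqs⟩
  have hcover : Set.range (Points.map j.hom) = Set.univ := by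
    by_contra hne
    have hZne : (Set.range (Points.map j.hom))ᶜ.Nonempty := Set.nonempty_compl.2 hne
    have hopen : IsOpen (Set.range (Points.map j.hom)) :=
      (K608.OpenEmb.isOpenEmbedding_of_repWith_isOpenImmersion hj).isOpen_range
    obtain ⟨g, hg⟩ := hpts _ hZne hopen.isClosed_compl.isLocallyClosed
    have hXne : (Set.range (Points.map j.hom)).Nonempty := by
      obtain ⟨x, hx⟩ := hZne
      have : Nonempty (Points (bcs G.left K)) := ⟨x⟩
      obtain ⟨_, ⟨y, rfl⟩⟩ := hdense.nonempty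
      obtain ⟨i, hi⟩ := hmax X₁ j₁ hj₁ hrep₁
      exact ⟨_, ⟨Points.map i.hom y, rfl⟩⟩
    obtain ⟨g', y, hy⟩ := hpts _ hXne hopen.isLocallyClosed
    let h := m 𝒢 hU (inv 𝒢 g') g
    have hh : m 𝒢 hU g' h = g := m_inv_m_left 𝒢 hU g' g
    let τ : bcs G.left K ≅ bcs G.left K := transIso 𝒢 hU h
    have hτ : RepWith @IsOpenImmersion (j.hom ≫ τ.hom) :=
      MorphismProperty.RespectsIso.postcomp (RepWith @IsOpenImmersion) _ _ hj
    obtain ⟨i, hi⟩ := hmax X' ⟨j.hom ≫ τ.hom⟩ hτ hrep
    have hi' : i.hom ≫ j.hom = j.hom ≫ τ.hom := congrArg (·.hom) hi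
    apply hg
    refine ⟨Points.map i.hom y, ?_⟩
    rw [← Points.map_comp, hi', Points.map_comp, hy, K608.Pts.map_pt]
    congr 1
    exact (lift_trans 𝒢 hU h g').trans (congrArg (fun z : (yon _).obj (fld k K) ⟶ 𝒢.R =>
      prod.lift z (𝟙 ((yon _).obj (fld k K)))) hh)
  have hiso : IsIso j.hom := K642.ColimEt.isIso_of_open hj (Set.range_eq_univ.1 hcover)
  rw [K610.ZarGlue.isRepresentable_iff] at hrep ⊢
  obtain ⟨H, ⟨e⟩⟩ := hrep
  exact ⟨H, ⟨e ≪≫ asIso j.hom⟩⟩

end K608.GrpSch
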