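import Groth.Agent.AlgSp.K608.Gpd

/-!
# Cartesian squares attached to groupoids: composition, restriction
-/

set_option autoImplicit false
universe u
open CategoryTheory CategoryTheory.Limits AlgebraicGeometry Opposite
open AlgSp

namespace K608.Gpd

variable {S : Scheme.{u}} {B : AlgSp.Sp S} (G : AlgSp.GroupoidSp B)

/-- A commutative square is cartesian if the universal property holds elementwise. -/
theorem isPullback_of_exists_unique {C : Type*} [Category C] {P X Y Z : C} {fst : P ⟶ X}
    {snd : P ⟶ Y} {f : X ⟶ Z} {g : Y ⟶ Z} (w : fst ≫ f = snd ≫ g)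
    (ex : ∀ (T : C) (a : T ⟶ X) (b : T ⟶ Y), a ≫ f = b ≫ g →
      ∃ l : T ⟶ P, l ≫ fst = a ∧ l ≫ snd = b)
    (uniq : ∀ (T : C) (l l' : T ⟶ P), l ≫ fst = l' ≫ fst → l ≫ snd = l' ≫ snd → l = l') :
    IsPullback fst snd f g := by
  refine ⟨⟨w⟩, ⟨PullbackCone.IsLimit.mk _ (fun s => (ex _ s.fst s.snd s.condition).choose)
    (fun s => (ex _ s.fst s.snd s.condition).choose_spec.1)
    (fun s => (ex _ s.fst s.snd s.condition).choose_spec.2) ?_⟩⟩
  intro s m h1 h2
  apply uniq
  · rw [h1, (ex _ s.fst s.snd s.condition).choose_spec.1]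
  · rw [h2, (ex _ s.fst s.snd s.condition).choose_spec.2]

theorem c_s : G.c ≫ G.s = pullback.snd G.s G.t ≫ G.s := by
  have h := mul_s G (pullback.fst G.s G.t) (pullback.snd G.s G.t) pullback.condition
  have e : pullback.lift (pullback.fst G.s G.t) (pullback.snd G.s G.t) pullback.condition = 𝟙 _ := by
    apply pullback.hom_ext
    · rw [pullback.lift_fst, Category.id_comp]
    · rw [pullback.lift_snd, Category.id_comp]
  unfold mul at h
  rwa [e, Category.id_comp] at h

theorem c_t : G.c ≫ G.t = pullback.fst G.s G.t ≫ G.t := by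
  have h := mul_t G (pullback.fst G.s G.t) (pullback.snd G.s G.t) pullback.condition
  have e : pullback.lift (pullback.fst G.s G.t) (pullback.snd G.s G.t) pullback.condition = 𝟙 _ := by
    apply pullback.hom_ext
    · rw [pullback.lift_fst, Category.id_comp]
    · rw [pullback.lift_snd, Category.id_comp]
  unfold mul at h
  rwa [e, Category.id_comp] at h

theorem lift_c {T : Sp S} (α β : T ⟶ G.R) (h : α ≫ G.s = β ≫ G.t) :
    pullback.lift α β h ≫ G.c = mul G α β h := rfl

theorem eq_mul {T : Sp S} (a : T ⟶ pullback G.s G.t) :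
    a ≫ G.c = mul G (a ≫ pullback.fst _ _) (a ≫ pullback.snd _ _)
      (by rw [Category.assoc, Category.assoc, pullback.condition]) := by
  unfold mul
  congr 1
  apply pullback.hom_ext
  · rw [pullback.lift_fst]
  · rw [pullback.lift_snd]

/-- The square `c, pr₁ : R ×_{s,U,t} R ⟶ R`, `s, s : R ⟶ U` is cartesian. -/
theorem isPullback_c_snd : IsPullback G.c (pullback.snd G.s G.t) G.s G.s := by
  refine isPullback_of_exists_unique (c_s G) ?_ ?_
  · intro T a b h
    have h1 : a ≫ G.s = inv G b ≫ G.t := by rw [inv_t, h]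
    refine ⟨pullback.lift (mul G a (inv G b) h1) b (by rw [mul_s, inv_s]), ?_, pullback.lift_snd _ _ _⟩
    rw [lift_c]
    exact inv_mul_cancel_right G _ _ _ _
  · intro T l l' h1 h2
    apply pullback.hom_ext
    · rw [eq_mul, eq_mul G l', mul_congr G (β' := l' ≫ pullback.snd G.s G.t) _ rfl h2] at h1
      exact mul_right_cancel G _ _ h1
    · exact h2

/-- The square `c, pr₀ : R ×_{s,U,t} R ⟶ R`, `t, t : R ⟶ U` is cartesian. -/
theorem isPullback_c_fst : IsPullback G.c (pullback.fst G.s G.t) G.t G.t := by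
  refine isPullback_of_exists_unique (c_t G) ?_ ?_
  · intro T a b h
    have h1 : inv G b ≫ G.s = a ≫ G.t := by rw [inv_s, h]
    refine ⟨pullback.lift b (mul G (inv G b) a h1) (by rw [mul_t, inv_t]), ?_, pullback.lift_fst _ _ _⟩
    rw [lift_c]
    exact mul_inv_cancel_left G _ _ _ _
  · intro T l l' h1 h2
    apply pullback.hom_ext
    · exact h2
    · rw [eq_mul, eq_mul G l', mul_congr G (α' := l' ≫ pullback.fst G.s G.t) _ h2 rfl] at h1
      exact mul_left_cancel G _ _ h1

/-- The inverse is an involution. -/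
theorem i_i : G.i ≫ G.i = 𝟙 G.R := by
  have := inv_inv G (𝟙 G.R)
  unfold inv at this
  rwa [Category.id_comp] at this

/-- The inverse as an isomorphism. -/
noncomputable def iIso : G.R ≅ G.R := ⟨G.i, G.i, i_i G, i_i G⟩

section Restriction

variable {G} {G' : AlgSp.GroupoidSp B} (φ : AlgSp.GroupoidSp.Hom G' G) (hφ : φ.IsRestriction)

theorem prodMap_fst : φ.prodMap ≫ pullback.fst G.pU G.pU = pullback.fst G'.pU G'.pU ≫ φ.fU := by
  unfold AlgSp.GroupoidSp.Hom.prodMap
  exact pullback.lift_fst _ _ _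

theorem prodMap_snd : φ.prodMap ≫ pullback.snd G.pU G.pU = pullback.snd G'.pU G'.pU ≫ φ.fU := by
  unfold AlgSp.GroupoidSp.Hom.prodMap
  exact pullback.lift_snd _ _ _

/-- `R' ⟶ R ×_{s,U} U'`. -/
noncomputable def toSrc : G'.R ⟶ pullback G.s φ.fU := pullback.lift φ.fR G'.s φ.comm_s

theorem toSrc_fst : toSrc φ ≫ pullback.fst G.s φ.fU = φ.fR := pullback.lift_fst _ _ _
theorem toSrc_snd : toSrc φ ≫ pullback.snd G.s φ.fU = G'.s := pullback.lift_snd _ _ _

include hφ in
/-- `R' = (R ×_{s,U} U') ×_{t ∘ pr,U} U'`. -/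
theorem isPullback_toSrc :
    IsPullback (toSrc φ) G'.t (pullback.fst G.s φ.fU ≫ G.t) φ.fU := by
  refine isPullback_of_exists_unique (by rw [← Category.assoc, toSrc_fst, φ.comm_t]) ?_ ?_
  · intro T a b h
    have h0 : (a ≫ pullback.fst G.s φ.fU) ≫ G.s = (a ≫ pullback.snd G.s φ.fU) ≫ φ.fU := by
      rw [Category.assoc, Category.assoc, pullback.condition]
    have h1 : b ≫ G'.pU = (a ≫ pullback.snd G.s φ.fU) ≫ G'.pU := by
      rw [← φ.fU_over, ← Category.assoc, ← h, Category.assoc, Category.assoc, G.t_over,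
        ← Category.assoc (a ≫ pullback.snd G.s φ.fU), ← h0, Category.assoc, G.s_over,
        Category.assoc]
    have h2 : (a ≫ pullback.fst G.s φ.fU) ≫ G.j =
        pullback.lift b (a ≫ pullback.snd G.s φ.fU) h1 ≫ φ.prodMap := by
      apply pullback.hom_ext
      · rw [Category.assoc, AlgSp.GroupoidSp.j_fst, Category.assoc, Category.assoc, prodMap_fst,
          pullback.lift_fst_assoc, h]
      · rw [Category.assoc, AlgSp.GroupoidSp.j_snd, h0, Category.assoc, Category.assoc, prodMap_snd,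
          pullback.lift_snd_assoc, Category.assoc]
    obtain ⟨l, hl1, hl2⟩ : ∃ l : T ⟶ G'.R, l ≫ φ.fR = a ≫ pullback.fst G.s φ.fU ∧
        l ≫ G'.j = pullback.lift b (a ≫ pullback.snd G.s φ.fU) h1 :=
      ⟨hφ.lift _ _ h2, hφ.lift_fst _ _ _, hφ.lift_snd _ _ _⟩
    refine ⟨l, ?_, ?_⟩
    · apply pullback.hom_ext
      · rw [Category.assoc, toSrc_fst, hl1]
      · rw [Category.assoc, toSrc_snd, ← AlgSp.GroupoidSp.j_snd G', ← Category.assoc, hl2,
          pullback.lift_snd]
    · rw [← AlgSp.GroupoidSp.j_fst G', ← Category.assoc, hl2, pullback.lift_fst]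
  · intro T l l' h1 h2
    apply hφ.hom_ext
    · rw [← toSrc_fst, ← Category.assoc, h1, Category.assoc]
    · apply pullback.hom_ext
      · rw [Category.assoc, Category.assoc, AlgSp.GroupoidSp.j_fst, h2]
      · rw [Category.assoc, Category.assoc, AlgSp.GroupoidSp.j_snd, ← toSrc_snd φ,
          ← Category.assoc, h1, Category.assoc]

end Restriction

end K608.Gpd
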