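import Groth.Prelude.Def_AlgSpGpd
import Groth.Agent.AlgSp.K608.GpdSq
import Mathlib.CategoryTheory.Monoidal.Cartesian.Grp

/-!
# Group objects over a sheaf: cartesian squares of the multiplication
-/

set_option autoImplicit false
universe u
open CategoryTheory CategoryTheory.Limits AlgebraicGeometry Opposite
  MonoidalCategory CartesianMonoidalCategory MonObj
open AlgSp

namespace K608.Grp

variable {S : Scheme.{u}} {B : AlgSp.Sp S}

theorem fst_left_hom (G X : Over B) : (fst G X).left ≫ G.hom = (G ⊗ X).hom := Over.w _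
theorem snd_left_hom (G X : Over B) : (snd G X).left ≫ X.hom = (G ⊗ X).hom := Over.w _

/-- Two morphisms to the underlying object of `G ⊗ X` agree if their components do. -/
theorem tensor_hom_ext {G X : Over B} {T : Sp S} {l l' : T ⟶ (G ⊗ X).left}
    (h1 : l ≫ (fst G X).left = l' ≫ (fst G X).left)
    (h2 : l ≫ (snd G X).left = l' ≫ (snd G X).left) : l = l' := by
  have hβ : l' ≫ (G ⊗ X).hom = l ≫ (G ⊗ X).hom := by
    rw [← fst_left_hom, ← Category.assoc, ← h1, Category.assoc]
  let L : Over.mk (l ≫ (G ⊗ X).hom) ⟶ G ⊗ X := Over.homMk l rfl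
  let L' : Over.mk (l ≫ (G ⊗ X).hom) ⟶ G ⊗ X := Over.homMk l' hβ
  have : L = L' := by
    apply CartesianMonoidalCategory.hom_ext
    · exact Over.OverMorphism.ext h1
    · exact Over.OverMorphism.ext h2
  exact congrArg (fun f => f.left) this

/-- The underlying object of `G ⊗ X` is the fibre product. -/
theorem isPullback_tensor (G X : Over B) :
    IsPullback (fst G X).left (snd G X).left G.hom X.hom := by
  refine K608.Gpd.isPullback_of_exists_unique (by rw [fst_left_hom, snd_left_hom]) ?_ ?_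
  · intro T a b h
    let a' : Over.mk (a ≫ G.hom) ⟶ G := Over.homMk a rfl
    let b' : Over.mk (a ≫ G.hom) ⟶ X := Over.homMk b h.symm
    refine ⟨(lift a' b').left, ?_, ?_⟩
    · exact congrArg (fun f => f.left) (lift_fst a' b')
    · exact congrArg (fun f => f.left) (lift_snd a' b')
  · intro T l l' h1 h2
    exact tensor_hom_ext h1 h2

theorem isPullback_mul_fst (G : Over B) [GrpObj G] :
    IsPullback (μ[G]).left (fst G G).left G.hom G.hom := by
  refine K608.Gpd.isPullback_of_exists_unique (by rw [fst_left_hom]; exact Over.w _) ?_ ?_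
  · intro T a b h
    let a' : Over.mk (a ≫ G.hom) ⟶ G := Over.homMk a rfl
    let b' : Over.mk (a ≫ G.hom) ⟶ G := Over.homMk b h.symm
    refine ⟨(lift b' (b'⁻¹ * a')).left, ?_, ?_⟩
    · have : lift b' (b'⁻¹ * a') ≫ μ[G] = a' := by
        rw [← Hom.mul_def, mul_inv_cancel_left]
      exact congrArg (fun f => f.left) this
    · exact congrArg (fun f => f.left) (lift_fst b' (b'⁻¹ * a'))
  · intro T l l' h1 h2
    have hβ : l' ≫ (G ⊗ G).hom = l ≫ (G ⊗ G).hom := by
      rw [← fst_left_hom, ← Category.assoc, ← h2, Category.assoc]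
    let L : Over.mk (l ≫ (G ⊗ G).hom) ⟶ G ⊗ G := Over.homMk l rfl
    let L' : Over.mk (l ≫ (G ⊗ G).hom) ⟶ G ⊗ G := Over.homMk l' hβ
    have e1 : L ≫ μ[G] = L' ≫ μ[G] := Over.OverMorphism.ext h1
    have e2 : L ≫ fst G G = L' ≫ fst G G := Over.OverMorphism.ext h2
    have key : ∀ M : Over.mk (l ≫ (G ⊗ G).hom) ⟶ G ⊗ G,
        M ≫ μ[G] = (M ≫ fst G G) * (M ≫ snd G G) := by
      intro M
      rw [Hom.mul_def]
      congr 1
      apply CartesianMonoidalCategory.hom_ext
      · rw [lift_fst]
      · rw [lift_snd]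
    have e3 : L ≫ snd G G = L' ≫ snd G G := by
      rw [key, key, e2] at e1
      exact mul_left_cancel e1
    exact tensor_hom_ext h2 (congrArg (fun f => f.left) e3)

theorem isPullback_mul_snd (G : Over B) [GrpObj G] :
    IsPullback (μ[G]).left (snd G G).left G.hom G.hom := by
  refine K608.Gpd.isPullback_of_exists_unique (by rw [snd_left_hom]; exact Over.w _) ?_ ?_
  · intro T a b h
    let a' : Over.mk (a ≫ G.hom) ⟶ G := Over.homMk a rfl
    let b' : Over.mk (a ≫ G.hom) ⟶ G := Over.homMk b h.symm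
    refine ⟨(lift (a' * b'⁻¹) b').left, ?_, ?_⟩
    · have : lift (a' * b'⁻¹) b' ≫ μ[G] = a' := by
        rw [← Hom.mul_def, inv_mul_cancel_right]
      exact congrArg (fun f => f.left) this
    · exact congrArg (fun f => f.left) (lift_snd (a' * b'⁻¹) b')
  · intro T l l' h1 h2
    have hβ : l' ≫ (G ⊗ G).hom = l ≫ (G ⊗ G).hom := by
      rw [← snd_left_hom, ← Category.assoc, ← h2, Category.assoc]
    let L : Over.mk (l ≫ (G ⊗ G).hom) ⟶ G ⊗ G := Over.homMk l rfl
    let L' : Over.mk (l ≫ (G ⊗ G).hom) ⟶ G ⊗ G := Over.homMk l' hβ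
    have e1 : L ≫ μ[G] = L' ≫ μ[G] := Over.OverMorphism.ext h1
    have e2 : L ≫ snd G G = L' ≫ snd G G := Over.OverMorphism.ext h2
    have key : ∀ M : Over.mk (l ≫ (G ⊗ G).hom) ⟶ G ⊗ G,
        M ≫ μ[G] = (M ≫ fst G G) * (M ≫ snd G G) := by
      intro M
      rw [Hom.mul_def]
      congr 1
      apply CartesianMonoidalCategory.hom_ext
      · rw [lift_fst]
      · rw [lift_snd]
    have e3 : L ≫ fst G G = L' ≫ fst G G := by
      rw [key, key, e2] at e1
      exact mul_right_cancel e1
    exact tensor_hom_ext (congrArg (fun f => f.left) e3) h2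

end K608.Grp
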