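import Groth.Agent.AlgSp.K608.Pts2
import Groth.Agent.AlgSp.K625.GeomRed2
import Groth.Agent.AlgSp.K611.Pt
import Groth.Agent.S7611
import Groth.Agent.CurvesB.NodeCriterion

/-!
# Rational points of the base change of an algebraic space to a large algebraically closed field
-/

set_option autoImplicit false
universe u
open CategoryTheory CategoryTheory.Limits AlgebraicGeometry Opposite Topology
open AlgSp
open K625.Fld (fld bcs)
open scoped Cardinal

namespace K608.BigPts

variable {k : Type u} [Field k]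

theorem pt_eq_ofPt {S : Scheme.{u}} {F : Sp S} {K : Type u} [Field K]
    {w : Spec (CommRingCat.of K) ⟶ S} (g : (yon S).obj (Over.mk w) ⟶ F) (t : ↥(Over.mk w).left) :
    Points.ofPt g t = K608.Pts.pt g :=
  (K608.Pts.ofPt_eq_pt g t).trans (K608.Pts.pt_map_comp
    (w := w) (w' := (Over.mk w).left.fromSpecResidueField t ≫ w) _ g)

/-- Every field has an algebraically closed extension of cardinality at least `κ`. -/
theorem exists_algClosed_card (k : Type u) [Field k] (κ : Cardinal.{u}) :
    ∃ (K : Type u) (_ : Field K) (_ : Algebra k K), IsAlgClosed K ∧ κ ≤ #K := by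
  induction κ using Cardinal.inductionOn with
  | _ ι =>
    let F := FractionRing (MvPolynomial ι k)
    refine ⟨AlgebraicClosure F, inferInstance, inferInstance, inferInstance, ?_⟩
    refine Cardinal.mk_le_of_injective
      (f := fun i => algebraMap F (AlgebraicClosure F) (algebraMap (MvPolynomial ι k) F (MvPolynomial.X i))) ?_
    intro i j hij
    have := (algebraMap F (AlgebraicClosure F)).injective hij
    have := IsFractionRing.injective (MvPolynomial ι k) F this
    exact MvPolynomial.X_injective this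

/-- A closed point with algebraic residue field over an algebraically closed field is rational. -/
theorem exists_section {K : Type u} [Field K] [IsAlgClosed K] {Y : Scheme.{u}}
    (f : Y ⟶ Spec (CommRingCat.of K)) (y : Y)
    (h : @Algebra.IsAlgebraic K (Y.residueField y) _ _ (@Curv2.resAlgebra K _ Y ⟨f⟩ y)) :
    ∃ s : Spec (CommRingCat.of K) ⟶ Y, s ≫ f = 𝟙 _ ∧ s (IsLocalRing.closedPoint K) = y := by
  letI : Algebra K (Y.residueField y) := @Curv2.resAlgebra K _ Y ⟨f⟩ y
  have hb : Function.Bijective (algebraMap K (Y.residueField y)) :=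
    IsAlgClosed.algebraMap_bijective_of_isIntegral (k := K) (K := Y.residueField y)
  let e : K ≃+* Y.residueField y := RingEquiv.ofBijective _ hb
  have h1 : Y.fromSpecResidueField y ≫ f = Spec.map (CommRingCat.ofHom (@Curv2.resMap K _ Y ⟨f⟩ y)) :=
    Groth.Agent.CurvesB.Node.fromSpecResidueField_comp f y
  refine ⟨Spec.map (CommRingCat.ofHom e.symm.toRingHom) ≫ Y.fromSpecResidueField y, ?_, ?_⟩
  · rw [Category.assoc, h1, ← Spec.map_comp, ← CommRingCat.ofHom_comp]
    have h2 : e.symm.toRingHom.comp (@Curv2.resMap K _ Y ⟨f⟩ y) = RingHom.id K := by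
      ext x
      exact e.symm_apply_apply x
    rw [h2]
    exact Spec.map_id _
  · rw [Scheme.Hom.comp_apply]
    exact Scheme.fromSpecResidueField_apply y _

/-- For a large algebraically closed extension `K` of `k`, rational points of `X_K` meet every nonempty locally
closed subset. -/
theorem exists_rational (X : Sp (Spec (CommRingCat.of k))) (hX : IsAlgSpace X) :
    ∃ (K : Type u) (_ : Field K) (_ : Algebra k K), IsAlgClosed K ∧
      ∀ W : Set (Points (bcs X K)), W.Nonempty → IsLocallyClosed W →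
        ∃ g : (yon _).obj (fld k K) ⟶ X, K608.Pts.pt (prod.lift g (𝟙 _) : _ ⟶ bcs X K) ∈ W := by
  obtain ⟨U, p, hp, hs⟩ := hX.atlas
  letI : U.left.Over (Spec (CommRingCat.of k)) := ⟨U.hom⟩
  obtain ⟨κ, hκ⟩ := Groth.Agent.S7611.result k U.left
  obtain ⟨K, _, _, hK, hcard⟩ := exists_algClosed_card k κ
  obtain ⟨hJ, hres⟩ := hκ K hcard
  have hJ' : JacobsonSpace ↥(FBase.bc U.hom K) := hJ
  refine ⟨K, inferInstance, inferInstance, hK, fun W hW hW' => ?_⟩
  let c := K649.RedChart.prodChart p (fld k K)
  have hc : RepWith @Surjective c := K649.RedChart.repWith_prodChart @Surjective p _ hs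
  let e : (U ⨯ fld k K).left ≅ FBase.bc U.hom K := K625.GeomRed2.prodIso U K
  let φ : ↥(FBase.bc U.hom K) → Points (bcs X K) := fun y => Points.ofPt c (e.inv y)
  have hφ : Continuous φ := (Points.continuous_ofPt c).comp e.inv.continuous
  have hφs : Function.Surjective φ := by
    intro x
    obtain ⟨t, ht⟩ := K611.ofPt_surjective hc x
    refine ⟨e.hom t, ?_⟩
    change Points.ofPt c (e.inv (e.hom t)) = x
    rw [Scheme.hom_inv_apply e t, ht]
  have h1 : (φ ⁻¹' W).Nonempty := by
    obtain ⟨x, hx⟩ := hW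
    obtain ⟨y, rfl⟩ := hφs x
    exact ⟨y, hx⟩
  obtain ⟨y, hy, hyc⟩ := nonempty_inter_closedPoints (X := ↥(FBase.bc U.hom K)) h1
    (hW'.preimage hφ)
  obtain ⟨s, hs1', hs2⟩ : ∃ s : Spec (CommRingCat.of K) ⟶ FBase.bc U.hom K,
      s ≫ FBase.bcStr U.hom K = 𝟙 _ ∧ s (IsLocalRing.closedPoint K) = y :=
    exists_section (Curv2.bcSnd k U.left K) y (hres y hyc)
  let t : fld k K ⟶ U ⨯ fld k K := Over.homMk (s ≫ e.inv) (by
    have e1 : e.inv ≫ (prod.snd : U ⨯ fld k K ⟶ fld k K).left = FBase.bcStr U.hom K := by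
      rw [Iso.inv_comp_eq]
      exact (K625.GeomRed2.prodIso_snd U K).symm
    change (s ≫ e.inv) ≫ (U ⨯ fld k K).hom = Spec.map (CommRingCat.ofHom (algebraMap k K))
    have e2 : (prod.snd : U ⨯ fld k K ⟶ fld k K).left ≫ Spec.map (CommRingCat.ofHom (algebraMap k K)) =
      (U ⨯ fld k K).hom := Over.w (prod.snd : U ⨯ fld k K ⟶ fld k K)
    rw [← e2, Category.assoc, ← Category.assoc e.inv, e1, ← Category.assoc, hs1', Category.id_comp])
  have ht2 : t ≫ prod.snd = 𝟙 _ := by
    apply Over.OverMorphism.ext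
    change (s ≫ e.inv) ≫ (prod.snd : U ⨯ fld k K ⟶ fld k K).left = 𝟙 _
    have e1 : e.inv ≫ (prod.snd : U ⨯ fld k K ⟶ fld k K).left = FBase.bcStr U.hom K := by
      rw [Iso.inv_comp_eq]
      exact (K625.GeomRed2.prodIso_snd U K).symm
    rw [Category.assoc, e1, hs1']
  refine ⟨(yon _).map (t ≫ prod.fst) ≫ p, ?_⟩
  have e3 : (prod.lift ((yon _).map (t ≫ prod.fst) ≫ p) (𝟙 _) : _ ⟶ bcs X K) = (yon _).map t ≫ c := by
    apply Limits.prod.hom_ext
    · rw [prod.lift_fst]
      simp only [c, K649.RedChart.prodChart, Category.assoc, prod.map_fst, prodComparison_fst_assoc,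
        Functor.map_comp]
    · rw [prod.lift_snd]
      simp only [c, K649.RedChart.prodChart, Category.assoc, prod.map_snd, Category.comp_id]
      rw [prodComparison_snd, ← Functor.map_comp, ht2, (yon _).map_id]
  rw [e3, ← pt_eq_ofPt ((yon _).map t ≫ c) (IsLocalRing.closedPoint K), K608.Pts.ofPt_yon_map_comp]
  have e4 : t.left (IsLocalRing.closedPoint K) = e.inv y := by
    change (s ≫ e.inv) (IsLocalRing.closedPoint K) = e.inv y
    rw [Scheme.Hom.comp_apply, hs2]
  rw [e4]
  exact hy

end K608.BigPts
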