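import Groth.Agent.AlgSp.K608.Field

/-!
# The one point space `h_{Spec k}`
-/

set_option autoImplicit false
universe u
open CategoryTheory CategoryTheory.Limits AlgebraicGeometry Opposite
open AlgSp

namespace K608.Field

variable {S : Scheme.{u}}

theorem subsingleton_points_field {k : Type u} [Field k] {str : Spec (CommRingCat.of k) ⟶ S} :
    Subsingleton (Points ((yon S).obj (Over.mk str))) :=
  (Points.schemeEquiv (Over.mk str)).symm.subsingleton (β := ↥(Spec (CommRingCat.of k)))

theorem isSurjectiveMor_of_nonempty_to_field {k : Type u} [Field k]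
    {str : Spec (CommRingCat.of k) ⟶ S} {X : Sp S}
    (f : X ⟶ (yon S).obj (Over.mk str)) (h : Nonempty (Points X)) : IsSurjectiveMor f := by
  intro y
  obtain ⟨x⟩ := h
  exact ⟨x, subsingleton_points_field.elim _ _⟩

end K608.Field
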