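import Groth.Prelude.Def_AlgSpDec
import Groth.Prelude.Def_AlgSp4

/-!
# Points of sheaves through morphisms from spectra of fields
-/

set_option autoImplicit false
universe u
open CategoryTheory CategoryTheory.Limits AlgebraicGeometry Opposite
open AlgSp

namespace K608.Pts

variable {S : Scheme.{u}} {F G H : Sp S}

/-- The field-valued point defined by a morphism `h_{Spec K} ⟶ F`. -/
noncomputable def ofHom {K : Type u} [Field K] {w : Spec (CommRingCat.of K) ⟶ S}
    (g : (yon S).obj (Over.mk w) ⟶ F) : FieldPt F :=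
  ⟨K, w, (J S).uliftYonedaEquiv g⟩

@[simp] theorem toHom_ofHom {K : Type u} [Field K] {w : Spec (CommRingCat.of K) ⟶ S}
    (g : (yon S).obj (Over.mk w) ⟶ F) : (ofHom g).toHom = g :=
  Equiv.symm_apply_apply _ _

@[simp] theorem ofHom_toHom (p : FieldPt F) : ofHom p.toHom = p := by
  obtain ⟨K, w, v⟩ := p
  unfold ofHom FieldPt.toHom
  rw [Equiv.apply_symm_apply]

theorem map_ofHom {K : Type u} [Field K] {w : Spec (CommRingCat.of K) ⟶ S}
    (g : (yon S).obj (Over.mk w) ⟶ F) (f : F ⟶ G) :
    (ofHom g).map f = ofHom (g ≫ f) := by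
  unfold ofHom FieldPt.map
  rw [GrothendieckTopology.uliftYonedaEquiv_comp]

/-- The class of the point defined by a morphism from the spectrum of a field. -/
noncomputable def pt {K : Type u} [Field K] {w : Spec (CommRingCat.of K) ⟶ S}
    (g : (yon S).obj (Over.mk w) ⟶ F) : Points F := Points.mk (ofHom g)

theorem map_pt {K : Type u} [Field K] {w : Spec (CommRingCat.of K) ⟶ S}
    (g : (yon S).obj (Over.mk w) ⟶ F) (f : F ⟶ G) :
    Points.map f (pt g) = pt (g ≫ f) := by
  unfold pt
  rw [Points.map_mk, map_ofHom]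

theorem exists_pt (x : Points F) : ∃ (K : Type u) (_ : Field K) (w : Spec (CommRingCat.of K) ⟶ S)
    (g : (yon S).obj (Over.mk w) ⟶ F), x = pt g := by
  induction x using Points.ind with
  | h p => exact ⟨p.K, inferInstance, p.str, p.toHom, by unfold pt; rw [ofHom_toHom]⟩

theorem pt_eq_pt_iff {K L : Type u} [Field K] [Field L] {w : Spec (CommRingCat.of K) ⟶ S}
    {w' : Spec (CommRingCat.of L) ⟶ S}
    (g : (yon S).obj (Over.mk w) ⟶ F) (g' : (yon S).obj (Over.mk w') ⟶ F) :
    pt g = pt g' ↔ ∃ (Ω : Type u) (_ : Field Ω) (v : Spec (CommRingCat.of Ω) ⟶ S)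
      (a : Over.mk v ⟶ Over.mk w) (b : Over.mk v ⟶ Over.mk w'),
      (yon S).map a ≫ g = (yon S).map b ≫ g' := by
  unfold pt
  rw [Points.mk_eq_mk_iff]
  constructor
  · rintro ⟨Ω, _, v, a, b, h⟩
    change Over.mk v ⟶ Over.mk w at a
    change Over.mk v ⟶ Over.mk w' at b
    refine ⟨Ω, inferInstance, v, a, b, ?_⟩
    apply (J S).uliftYonedaEquiv.injective
    refine ((GrothendieckTopology.uliftYonedaEquiv_naturality (J S) g a).symm.trans ?_).trans
      (GrothendieckTopology.uliftYonedaEquiv_naturality (J S) g' b)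
    exact h
  · rintro ⟨Ω, _, v, a, b, h⟩
    refine ⟨Ω, inferInstance, v, a, b, ?_⟩
    change F.obj.map a.op ((J S).uliftYonedaEquiv g) = F.obj.map b.op ((J S).uliftYonedaEquiv g')
    rw [GrothendieckTopology.uliftYonedaEquiv_naturality,
      GrothendieckTopology.uliftYonedaEquiv_naturality, h]

theorem pt_map_comp {K L : Type u} [Field K] [Field L] {w : Spec (CommRingCat.of K) ⟶ S}
    {w' : Spec (CommRingCat.of L) ⟶ S} (a : Over.mk w' ⟶ Over.mk w)
    (g : (yon S).obj (Over.mk w) ⟶ F) : pt ((yon S).map a ≫ g) = pt g := by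
  rw [pt_eq_pt_iff]
  refine ⟨L, inferInstance, w', 𝟙 _, a, ?_⟩
  rw [CategoryTheory.Functor.map_id, Category.id_comp]

/-- The point defined by a point of a scheme, as the point of a morphism from the spectrum of the
residue field. -/
theorem ofPt_eq_pt {T : Over S} (g : (yon S).obj T ⟶ F) (t : ↥T.left) :
    Points.ofPt g t =
      pt ((yon S).map (Over.homMk (T.left.fromSpecResidueField t) rfl :
        Over.mk (T.left.fromSpecResidueField t ≫ T.hom) ⟶ T) ≫ g) := by
  unfold Points.ofPt pt
  congr 1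

end K608.Pts
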