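import Groth.Agent.AlgSp.K608.GpdSq

/-!
# Right translation by an arrow `ρ : X ⟶ R`, as a second cartesian square

For `ρ : X ⟶ R` the fibre product `P = R ×_{s,U,t∘ρ} X` has, besides its projection `α : P ⟶ R`, the map
`β = α ∘ ρ : P ⟶ R`, and `(β, q)` is cartesian over `(s, s ∘ ρ)`.  The section `(e ∘ t ∘ ρ, id)` of `P ⟶ X` is
sent to `e ∘ t ∘ ρ` by `α` and to `ρ` by `β`.
-/

set_option autoImplicit false
universe u
open CategoryTheory CategoryTheory.Limits AlgebraicGeometry Opposite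
open AlgSp

namespace K608.TransSq

open K608.Gpd

variable {S : Scheme.{u}} {B : AlgSp.Sp S} (G : AlgSp.GroupoidSp B)

theorem exists_trans {X : AlgSp.Sp S} (ρ : X ⟶ G.R) :
    ∃ (P : AlgSp.Sp S) (α β : P ⟶ G.R) (q : P ⟶ X) (x : X ⟶ P),
      IsPullback α q G.s (ρ ≫ G.t) ∧ IsPullback β q G.s (ρ ≫ G.s) ∧
      α ≫ G.t = β ≫ G.t ∧
      x ≫ q = 𝟙 X ∧ x ≫ α = ρ ≫ G.t ≫ G.e ∧ x ≫ β = ρ := by
  let P := pullback G.s (ρ ≫ G.t)
  let α : P ⟶ G.R := pullback.fst _ _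
  let q : P ⟶ X := pullback.snd _ _
  have hα : IsPullback α q G.s (ρ ≫ G.t) := IsPullback.of_hasPullback _ _
  have h1 : α ≫ G.s = (q ≫ ρ) ≫ G.t := by rw [hα.w, Category.assoc]
  let β : P ⟶ G.R := mul G α (q ≫ ρ) h1
  have hβs : β ≫ G.s = q ≫ ρ ≫ G.s := by rw [mul_s, Category.assoc]
  have hx : (ρ ≫ G.t ≫ G.e) ≫ G.s = 𝟙 X ≫ ρ ≫ G.t := by
    rw [Category.id_comp, Category.assoc, Category.assoc, G.e_s, Category.comp_id]
  refine ⟨P, α, β, q, hα.lift _ _ hx, hα, ?_, (mul_t G _ _ h1).symm, hα.lift_snd _ _ hx, hα.lift_fst _ _ hx, ?_⟩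
  · refine isPullback_of_exists_unique hβs ?_ ?_
    · intro T a b h
      have h2 : a ≫ G.s = inv G (b ≫ ρ) ≫ G.t := by rw [inv_t, h, Category.assoc]
      have h3 : mul G a (inv G (b ≫ ρ)) h2 ≫ G.s = b ≫ ρ ≫ G.t := by
        rw [mul_s, inv_s, Category.assoc]
      refine ⟨hα.lift _ _ h3, ?_, hα.lift_snd _ _ _⟩
      have e1 : hα.lift _ _ h3 ≫ α = mul G a (inv G (b ≫ ρ)) h2 := hα.lift_fst _ _ _
      have e2 : hα.lift _ _ h3 ≫ q = b := hα.lift_snd _ _ _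
      change hα.lift _ _ h3 ≫ mul G α (q ≫ ρ) h1 = a
      rw [comp_mul]
      refine (mul_congr G (α' := mul G a (inv G (b ≫ ρ)) h2) (β' := b ≫ ρ) _ e1
        (by rw [← Category.assoc, e2])).trans ?_
      exact inv_mul_cancel_right G _ _ _ _
    · intro T l l' e1 e2
      apply hα.hom_ext _ e2
      have e3 : mul G (l ≫ α) (l ≫ q ≫ ρ) (by rw [Category.assoc, Category.assoc, h1]) =
          mul G (l' ≫ α) (l' ≫ q ≫ ρ) (by rw [Category.assoc, Category.assoc, h1]) := by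
        rw [← comp_mul, ← comp_mul]
        exact e1
      have e4 : l ≫ q ≫ ρ = l' ≫ q ≫ ρ := by rw [← Category.assoc, e2, Category.assoc]
      have e5 : (l' ≫ α) ≫ G.s = (l ≫ q ≫ ρ) ≫ G.t := by
        rw [e4, Category.assoc, Category.assoc, h1]
      have e6 : mul G (l' ≫ α) (l' ≫ q ≫ ρ) (by rw [Category.assoc, Category.assoc, h1]) =
          mul G (l' ≫ α) (l ≫ q ≫ ρ) e5 := mul_congr G _ rfl e4.symm
      exact mul_right_cancel G _ _ (e3.trans e6)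
  · have e1 : hα.lift _ _ hx ≫ α = ρ ≫ G.t ≫ G.e := hα.lift_fst _ _ _
    have e2 : hα.lift _ _ hx ≫ q = 𝟙 X := hα.lift_snd _ _ _
    change hα.lift _ _ hx ≫ mul G α (q ≫ ρ) h1 = ρ
    rw [comp_mul]
    refine (mul_congr G (α' := one G (ρ ≫ G.t)) (β' := ρ) _ (by rw [e1, one, Category.assoc])
      (by rw [← Category.assoc, e2, Category.id_comp])).trans ?_
    exact one_mul G _ _ _

end K608.TransSq
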