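import Groth.Agent.S9327
import Groth.Agent.S0539
import Mathlib.RingTheory.Ideal.GoingDown
import Mathlib.RingTheory.RingHom.Flat
import Mathlib.RingTheory.Localization.AtPrime.Basic

/-!
# Uniqueness of the branch at the origin of a local group law (commutative algebra)
-/

set_option autoImplicit false
universe u

namespace K608.UnibAlg

alias i9327 := Groth.Agent.S9327.result

open TensorProduct IsLocalRing

/-- going down for flat ring maps -/
theorem exists_le_comap_eq {R S : Type*} [CommRing R] [CommRing S] (f : R →+* S) (hf : f.Flat)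
    (p : Ideal R) [p.IsPrime] (Q : Ideal S) [Q.IsPrime] (h : p ≤ Q.comap f) :
    ∃ P : Ideal S, P.IsPrime ∧ P ≤ Q ∧ P.comap f = p := by
  let _ := f.toAlgebra
  have : Module.Flat R S := hf
  have : Q.LiesOver (Q.comap f) := ⟨rfl⟩
  obtain ⟨P, hP, hP', hP''⟩ := Ideal.exists_ideal_le_liesOver_of_le Q h
  exact ⟨P, hP', hP, hP''.over.symm⟩

section

variable {k A B C : Type u} [Field k] [CommRing A] [CommRing B] [Algebra k A] [Algebra k B]
  (𝔪 : Ideal (A ⊗[k] B)) [𝔪.IsPrime] (C) [CommRing C] [Algebra (Localization.AtPrime 𝔪) C]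

/-- the map `A ⟶ C` -/
noncomputable abbrev iA : A →+* C := (algebraMap (Localization.AtPrime 𝔪) C).comp
  ((algebraMap (A ⊗[k] B) (Localization.AtPrime 𝔪)).comp
    (Algebra.TensorProduct.includeLeft : A →ₐ[k] A ⊗[k] B).toRingHom)

/-- the map `B ⟶ C` -/
noncomputable abbrev iB : B →+* C := (algebraMap (Localization.AtPrime 𝔪) C).comp
  ((algebraMap (A ⊗[k] B) (Localization.AtPrime 𝔪)).comp
    (Algebra.TensorProduct.includeRight : B →ₐ[k] A ⊗[k] B).toRingHom)

variable [IsLocalRing C] [IsLocalHom (algebraMap (Localization.AtPrime 𝔪) C)]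
  [Hensel.IsStrictHenselization (Localization.AtPrime 𝔪) C]

theorem flat_L : ((algebraMap (Localization.AtPrime 𝔪) C).comp
    (algebraMap (A ⊗[k] B) (Localization.AtPrime 𝔪))).Flat := by
  have h1 : Module.FaithfullyFlat (Localization.AtPrime 𝔪) C := Groth.Agent.S0539.result _ _
  have h2 : (algebraMap (Localization.AtPrime 𝔪) C).Flat := by
    rw [RingHom.flat_algebraMap_iff]
    infer_instance
  have h3 : (algebraMap (A ⊗[k] B) (Localization.AtPrime 𝔪)).Flat := by
    rw [RingHom.flat_algebraMap_iff]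
    exact IsLocalization.flat _ 𝔪.primeCompl
  exact RingHom.Flat.comp h3 h2

theorem flat_iA : (iA 𝔪 C).Flat := by
  have h1 : (Algebra.TensorProduct.includeLeft : A →ₐ[k] A ⊗[k] B).toRingHom.Flat := by
    have : Module.Flat A (A ⊗[k] B) := inferInstance
    exact (RingHom.flat_algebraMap_iff (R := A) (S := A ⊗[k] B)).2 this
  have h := RingHom.Flat.comp h1 (flat_L 𝔪 C)
  exact h

theorem flat_iB : (iB 𝔪 C).Flat := by
  have h1 : (Algebra.TensorProduct.includeRight : B →ₐ[k] A ⊗[k] B).toRingHom.Flat := by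
    have : Module.Flat B (B ⊗[k] A) := inferInstance
    have h2 := (RingHom.flat_algebraMap_iff (R := B) (S := B ⊗[k] A)).2 this
    have h3 : ((Algebra.TensorProduct.comm k B A).toRingEquiv : (B ⊗[k] A) →+* (A ⊗[k] B)).Flat :=
      RingHom.Flat.of_bijective (Algebra.TensorProduct.comm k B A).bijective
    have h4 := RingHom.Flat.comp h2 h3
    have h5 : ((Algebra.TensorProduct.comm k B A).toRingEquiv : (B ⊗[k] A) →+* (A ⊗[k] B)).comp
      (algebraMap B (B ⊗[k] A)) = (Algebra.TensorProduct.includeRight : B →ₐ[k] A ⊗[k] B).toRingHom := by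
      ext b
      rfl
    rwa [h5] at h4
  have h := RingHom.Flat.comp h1 (flat_L 𝔪 C)
  exact h

end

/-- The key lemma: strictly henselian local rings `A`, `B` over an algebraically closed field `k`, the strict
henselization `C` of `A ⊗ B` at the origin, its two 'coordinate axes' `σ₁ : C ⟶ A`, `σ₂ : C ⟶ B`, and a map
`m : A ⟶ C` which is an isomorphism on both axes.  Then `A` has at most one minimal prime. -/
theorem subsingleton_minimalPrimes {k A B C : Type u} [Field k] [IsAlgClosed k] [CommRing A]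
    [CommRing B] [HenselianLocalRing A] [HenselianLocalRing B] [Algebra k A] [Algebra k B]
    (hA : Function.Bijective ((residue A).comp (algebraMap k A)))
    (hB : Function.Bijective ((residue B).comp (algebraMap k B)))
    (𝔪 : Ideal (A ⊗[k] B)) [𝔪.IsPrime]
    (h𝔪 : 𝔪 = (maximalIdeal A).map (Algebra.TensorProduct.includeLeft : A →ₐ[k] A ⊗[k] B) ⊔
      (maximalIdeal B).map (Algebra.TensorProduct.includeRight : B →ₐ[k] A ⊗[k] B))
    [CommRing C] [IsLocalRing C] [Algebra (Localization.AtPrime 𝔪) C]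
    [IsLocalHom (algebraMap (Localization.AtPrime 𝔪) C)]
    [Hensel.IsStrictHenselization (Localization.AtPrime 𝔪) C]
    (σ₁ : C →+* A) (σ₂ : C →+* B) (m : A →+* C)
    (h₁ : σ₁.comp (iA 𝔪 C) = RingHom.id A) (h₁' : ∀ b ∈ maximalIdeal B, σ₁ (iB 𝔪 C b) = 0)
    (h₂ : σ₂.comp (iB 𝔪 C) = RingHom.id B) (h₂' : ∀ a ∈ maximalIdeal A, σ₂ (iA 𝔪 C a) = 0)
    (hm₁ : Function.Bijective (σ₁.comp m)) (hm₂ : Function.Bijective (σ₂.comp m))
    (p₁ p₂ : Ideal A) (hp₁ : p₁ ∈ minimalPrimes A) (hp₂ : p₂ ∈ minimalPrimes A) : p₁ = p₂ := by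
  have hbij := i9327 hA hB 𝔪 h𝔪 (C := C)
  -- the prime of `C` with components `(p, p')`, inside the two coordinate primes
  have key : ∀ (p : Ideal A) (p' : Ideal B), p ∈ minimalPrimes A → p' ∈ minimalPrimes B →
      ∃ r ∈ minimalPrimes C, r ≤ p.comap σ₁ ∧ r ≤ p'.comap σ₂ := by
    intro p p' hp hp'
    have : p.IsPrime := hp.1.1
    have : p'.IsPrime := hp'.1.1
    -- first coordinate
    have e1 : (p.comap σ₁).comap (iA 𝔪 C) = p := by
      rw [Ideal.comap_comap, h₁, Ideal.comap_id]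
    have e1' : p' ≤ (p.comap σ₁).comap (iB 𝔪 C) := by
      intro b hb
      have hb' : b ∈ maximalIdeal B := le_maximalIdeal (Ideal.IsPrime.ne_top inferInstance) hb
      rw [Ideal.mem_comap, Ideal.mem_comap, h₁' b hb']
      exact p.zero_mem
    obtain ⟨P, hP, hPle, hPc⟩ := exists_le_comap_eq (iB 𝔪 C) (flat_iB 𝔪 C) p' (p.comap σ₁) e1'
    have e2 : (p'.comap σ₂).comap (iB 𝔪 C) = p' := by
      rw [Ideal.comap_comap, h₂, Ideal.comap_id]
    have e2' : p ≤ (p'.comap σ₂).comap (iA 𝔪 C) := by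
      intro b hb
      have hb' : b ∈ maximalIdeal A := le_maximalIdeal (Ideal.IsPrime.ne_top inferInstance) hb
      rw [Ideal.mem_comap, Ideal.mem_comap, h₂' b hb']
      exact p'.zero_mem
    obtain ⟨P', hP', hPle', hPc'⟩ := exists_le_comap_eq (iA 𝔪 C) (flat_iA 𝔪 C) p (p'.comap σ₂) e2'
    obtain ⟨r, hr, hrP⟩ := Ideal.exists_minimalPrimes_le (I := (⊥ : Ideal C)) (J := P) bot_le
    obtain ⟨r', hr', hrP'⟩ := Ideal.exists_minimalPrimes_le (I := (⊥ : Ideal C)) (J := P') bot_le
    have : r.IsPrime := hr.1.1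
    have : r'.IsPrime := hr'.1.1
    have a1 : r.comap (iA 𝔪 C) = p := by
      refine le_antisymm ?_ (hp.2 ⟨Ideal.IsPrime.comap _, bot_le⟩ ?_)
      · exact (Ideal.comap_mono (hrP.trans hPle)).trans e1.le
      · exact (Ideal.comap_mono (hrP.trans hPle)).trans e1.le
    have a2 : r.comap (iB 𝔪 C) = p' := by
      refine le_antisymm ?_ (hp'.2 ⟨Ideal.IsPrime.comap _, bot_le⟩ ?_)
      · exact (Ideal.comap_mono hrP).trans hPc.le
      · exact (Ideal.comap_mono hrP).trans hPc.le
    have b1 : r'.comap (iA 𝔪 C) = p := by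
      refine le_antisymm ?_ (hp.2 ⟨Ideal.IsPrime.comap _, bot_le⟩ ?_)
      · exact (Ideal.comap_mono hrP').trans hPc'.le
      · exact (Ideal.comap_mono hrP').trans hPc'.le
    have b2 : r'.comap (iB 𝔪 C) = p' := by
      refine le_antisymm ?_ (hp'.2 ⟨Ideal.IsPrime.comap _, bot_le⟩ ?_)
      · exact (Ideal.comap_mono (hrP'.trans hPle')).trans e2.le
      · exact (Ideal.comap_mono (hrP'.trans hPle')).trans e2.le
    have hrr : r = r' := hbij.injOn hr hr' (Prod.ext (a1.trans b1.symm) (a2.trans b2.symm))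
    exact ⟨r, hr, hrP.trans hPle, hrr ▸ hrP'.trans hPle'⟩
  -- the map `m`
  let θ₁ : A ≃+* A := RingEquiv.ofBijective _ hm₁
  let θ₂ : A ≃+* B := RingEquiv.ofBijective _ hm₂
  have key2 : ∀ (p : Ideal A) (p' : Ideal B), p ∈ minimalPrimes A → p' ∈ minimalPrimes B →
      p.comap (σ₁.comp m) = p'.comap (σ₂.comp m) := by
    intro p p' hp hp'
    have : p.IsPrime := hp.1.1
    have : p'.IsPrime := hp'.1.1
    obtain ⟨r, hr, h1, h2⟩ := key p p' hp hp'
    have : r.IsPrime := hr.1.1
    have c1 : p.comap (σ₁.comp m) ∈ minimalPrimes A := by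
      have := Ideal.minimal_primes_comap_of_surjective (f := σ₁.comp m) hm₁.2 (I := (⊥ : Ideal A)) hp
      have h3 : (⊥ : Ideal A).comap (σ₁.comp m) = ⊥ := by
        ext x
        rw [Ideal.mem_comap, Ideal.mem_bot, Ideal.mem_bot]
        exact map_eq_zero_iff _ hm₁.1
      rwa [h3] at this
    have c2 : p'.comap (σ₂.comp m) ∈ minimalPrimes A := by
      have := Ideal.minimal_primes_comap_of_surjective (f := σ₂.comp m) hm₂.2 (I := (⊥ : Ideal B)) hp'
      have h3 : (⊥ : Ideal B).comap (σ₂.comp m) = ⊥ := by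
        ext x
        rw [Ideal.mem_comap, Ideal.mem_bot, Ideal.mem_bot]
        exact map_eq_zero_iff _ hm₂.1
      rwa [h3] at this
    have d1 : r.comap m ≤ p.comap (σ₁.comp m) := by
      rw [← Ideal.comap_comap]
      exact Ideal.comap_mono h1
    have d2 : r.comap m ≤ p'.comap (σ₂.comp m) := by
      rw [← Ideal.comap_comap]
      exact Ideal.comap_mono h2
    have f1 : p.comap (σ₁.comp m) = r.comap m :=
      le_antisymm (c1.2 ⟨Ideal.IsPrime.comap _, bot_le⟩ d1) d1
    have f2 : p'.comap (σ₂.comp m) = r.comap m :=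
      le_antisymm (c2.2 ⟨Ideal.IsPrime.comap _, bot_le⟩ d2) d2
    rw [f1, f2]
  obtain ⟨p', hp'⟩ : (minimalPrimes B).Nonempty := by
    obtain ⟨r, hr, -⟩ := Ideal.exists_minimalPrimes_le (I := (⊥ : Ideal B)) (J := maximalIdeal B) bot_le
    exact ⟨r, hr⟩
  have h3 := (key2 p₁ p' hp₁ hp').trans (key2 p₂ p' hp₂ hp').symm
  exact Ideal.comap_injective_of_surjective _ hm₁.2 h3

end K608.UnibAlg
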