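import Groth.Agent.AlgSp.K608.UnibAlg
import Groth.Agent.Lefpen.H119.HensMap
import Mathlib.LinearAlgebra.TensorProduct.RightExactness

/-!
# The strict henselization of `A ⊗ B` at the origin and its two coordinate axes
-/

set_option autoImplicit false
universe u

namespace K608.UnibAlg

open TensorProduct IsLocalRing

theorem eq_zero_iff_mem {k A : Type u} [Field k] [CommRing A] [IsLocalRing A] [Algebra k A]
    (ε : A →ₐ[k] k) (a : A) : ε a = 0 ↔ a ∈ maximalIdeal A := by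
  have hs : Function.Surjective ε := fun x => ⟨algebraMap k A x, ε.commutes x⟩
  have h1 : (RingHom.ker ε.toRingHom).IsMaximal := RingHom.ker_isMaximal_of_surjective _ hs
  rw [← IsLocalRing.eq_maximalIdeal h1]
  exact Iff.rfl

theorem bijective_residue {k A : Type u} [Field k] [CommRing A] [IsLocalRing A] [Algebra k A]
    (ε : A →ₐ[k] k) : Function.Bijective ((residue A).comp (algebraMap k A)) := by
  refine ⟨RingHom.injective _, fun y => ?_⟩
  obtain ⟨a, rfl⟩ := residue_surjective y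
  refine ⟨ε a, ?_⟩
  have h : algebraMap k A (ε a) - a ∈ maximalIdeal A := by
    rw [← eq_zero_iff_mem ε, map_sub, ε.commutes]
    exact sub_self _
  have := (residue_eq_zero_iff _).2 h
  rw [map_sub, sub_eq_zero] at this
  exact this

theorem isSepClosed_residueField {k A : Type u} [Field k] [IsAlgClosed k] [CommRing A] [IsLocalRing A]
    [Algebra k A] (ε : A →ₐ[k] k) : IsSepClosed (ResidueField A) :=
  Groth.Agent.Hensel.Exist.isSepClosed_of_ringEquiv
    (RingEquiv.ofBijective _ (bijective_residue ε)).symm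

/-- A ring map `f : R ⟶ A` to a local ring inducing the prime `𝔪` extends to a local map on `R_𝔪`. -/
theorem exists_localHom {R A : Type u} [CommRing R] [CommRing A] [IsLocalRing A] (f : R →+* A)
    (𝔪 : Ideal R) [𝔪.IsPrime] (h : (maximalIdeal A).comap f = 𝔪) :
    ∃ g : Localization.AtPrime 𝔪 →+* A, IsLocalHom g ∧ g.comp (algebraMap R _) = f := by
  have hu : ∀ y : 𝔪.primeCompl, IsUnit (f y) := by
    rintro ⟨y, hy⟩
    by_contra hn
    exact hy (h ▸ (mem_maximalIdeal _).2 hn)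
  refine ⟨IsLocalization.lift (M := 𝔪.primeCompl) hu, ?_, IsLocalization.lift_comp hu⟩
  apply ((IsLocalRing.local_hom_TFAE _).out 0 2).2
  rw [← Localization.AtPrime.map_eq_maximalIdeal, Ideal.map_map, IsLocalization.lift_comp,
    Ideal.map_le_iff_le_comap, h]

/-- The strictly henselian local ring `C` of the product at the origin, with its maps. -/
theorem exists_prod {k A B : Type u} [Field k] [IsAlgClosed k] [CommRing A]
    [CommRing B] [HenselianLocalRing A] [HenselianLocalRing B] [Algebra k A] [Algebra k B]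
    (εA : A →ₐ[k] k) (εB : B →ₐ[k] k) :
    ∃ (C : Type u) (_ : CommRing C) (_ : HenselianLocalRing C) (jA : A →+* C) (jB : B →+* C)
      (σ₁ : C →+* A) (σ₂ : C →+* B), IsLocalHom σ₁ ∧ IsLocalHom σ₂ ∧
      jA.comp (algebraMap k A) = jB.comp (algebraMap k B) ∧
      σ₁.comp jA = RingHom.id A ∧ σ₁.comp jB = (algebraMap k A).comp εB.toRingHom ∧
      σ₂.comp jB = RingHom.id B ∧ σ₂.comp jA = (algebraMap k B).comp εA.toRingHom ∧
      ∀ m : A →+* C, Function.Bijective (σ₁.comp m) → Function.Bijective (σ₂.comp m) →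
        ∀ p₁ ∈ minimalPrimes A, ∀ p₂ ∈ minimalPrimes A, p₁ = p₂ := by
  let 𝔪 : Ideal (A ⊗[k] B) := (maximalIdeal A).map (Algebra.TensorProduct.includeLeft : A →ₐ[k] A ⊗[k] B) ⊔
      (maximalIdeal B).map (Algebra.TensorProduct.includeRight : B →ₐ[k] A ⊗[k] B)
  have hkA : RingHom.ker εA = maximalIdeal A := by
    ext a; exact eq_zero_iff_mem εA a
  have hkB : RingHom.ker εB = maximalIdeal B := by
    ext a; exact eq_zero_iff_mem εB a
  let e : A ⊗[k] B →ₐ[k] k ⊗[k] k := Algebra.TensorProduct.map εA εB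
  have hsA : Function.Surjective εA := fun x => ⟨algebraMap k A x, εA.commutes x⟩
  have hsB : Function.Surjective εB := fun x => ⟨algebraMap k B x, εB.commutes x⟩
  have hke : RingHom.ker e = 𝔪 := by
    have := Algebra.TensorProduct.map_ker (f := εA) (g := εB) hsA hsB
    rw [hkA, hkB] at this
    exact this
  let c : k ⊗[k] k ≃ₐ[k] k := Algebra.TensorProduct.lid k k
  let e' : A ⊗[k] B →ₐ[k] k := c.toAlgHom.comp e
  have hke' : RingHom.ker e' = 𝔪 := by
    rw [← hke]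
    ext x
    rw [RingHom.mem_ker, RingHom.mem_ker]
    change c (e x) = 0 ↔ e x = 0
    exact map_eq_zero_iff c c.injective
  have h𝔪 : 𝔪.IsPrime := by
    rw [← hke']
    exact RingHom.ker_isPrime _
  let f₁ : A ⊗[k] B →ₐ[k] A := Algebra.TensorProduct.lift (AlgHom.id k A) ((Algebra.ofId k A).comp εB)
    (fun _ _ => Commute.all _ _)
  let f₂ : A ⊗[k] B →ₐ[k] B := Algebra.TensorProduct.lift ((Algebra.ofId k B).comp εA) (AlgHom.id k B)
    (fun _ _ => Commute.all _ _)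
  have hf₁ : εA.comp f₁ = e' := by
    apply Algebra.TensorProduct.ext
    · ext a
      change εA (f₁ (a ⊗ₜ 1)) = c (e (a ⊗ₜ 1))
      simp [f₁, c, e]
    · ext b
      change εA (f₁ (1 ⊗ₜ b)) = c (e (1 ⊗ₜ b))
      simp [f₁, c, e]
  have hf₂ : εB.comp f₂ = e' := by
    apply Algebra.TensorProduct.ext
    · ext a
      change εB (f₂ (a ⊗ₜ 1)) = c (e (a ⊗ₜ 1))
      simp [f₂, c, e]
    · ext b
      change εB (f₂ (1 ⊗ₜ b)) = c (e (1 ⊗ₜ b))
      simp [f₂, c, e]
  have hc₁ : (maximalIdeal A).comap f₁.toRingHom = 𝔪 := by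
    rw [← hke', ← hf₁]
    ext x
    rw [Ideal.mem_comap, RingHom.mem_ker]
    exact (eq_zero_iff_mem εA _).symm
  have hc₂ : (maximalIdeal B).comap f₂.toRingHom = 𝔪 := by
    rw [← hke', ← hf₂]
    ext x
    rw [Ideal.mem_comap, RingHom.mem_ker]
    exact (eq_zero_iff_mem εB _).symm
  obtain ⟨g₁, hg₁, hg₁'⟩ := exists_localHom f₁.toRingHom 𝔪 hc₁
  obtain ⟨g₂, hg₂, hg₂'⟩ := exists_localHom f₂.toRingHom 𝔪 hc₂
  obtain ⟨C, _, _, _, _, hC, -⟩ := Groth.Agent.Hensel.Exist.exists_isStrictHenselization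
    (R := Localization.AtPrime 𝔪)
  have := isSepClosed_residueField εA
  have := isSepClosed_residueField εB
  obtain ⟨σ₁, hσ₁, hσ₁'⟩ := Groth.Agent.Lefpen.H119.HensMap.exists_lift (Localization.AtPrime 𝔪) C A g₁
  obtain ⟨σ₂, hσ₂, hσ₂'⟩ := Groth.Agent.Lefpen.H119.HensMap.exists_lift (Localization.AtPrime 𝔪) C B g₂
  have a₁ : σ₁.comp (iA 𝔪 C) = RingHom.id A := by
    ext a
    change σ₁ (algebraMap _ C (algebraMap _ _ (a ⊗ₜ[k] (1 : B)))) = a
    have h1 := RingHom.congr_fun hσ₁' (algebraMap _ _ (a ⊗ₜ[k] (1 : B)))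
    have h2 := RingHom.congr_fun hg₁' (a ⊗ₜ[k] (1 : B))
    refine (h1.trans h2).trans ?_
    change f₁ (a ⊗ₜ[k] (1 : B)) = a
    simp [f₁]
  have a₂ : σ₂.comp (iB 𝔪 C) = RingHom.id B := by
    ext a
    change σ₂ (algebraMap _ C (algebraMap _ _ ((1 : A) ⊗ₜ[k] a))) = a
    have h1 := RingHom.congr_fun hσ₂' (algebraMap _ _ ((1 : A) ⊗ₜ[k] a))
    have h2 := RingHom.congr_fun hg₂' ((1 : A) ⊗ₜ[k] a)
    refine (h1.trans h2).trans ?_
    change f₂ ((1 : A) ⊗ₜ[k] a) = a
    simp [f₂]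
  have b₁ : σ₁.comp (iB 𝔪 C) = (algebraMap k A).comp εB.toRingHom := by
    ext a
    change σ₁ (algebraMap _ C (algebraMap _ _ ((1 : A) ⊗ₜ[k] a))) = algebraMap k A (εB a)
    have h1 := RingHom.congr_fun hσ₁' (algebraMap _ _ ((1 : A) ⊗ₜ[k] a))
    have h2 := RingHom.congr_fun hg₁' ((1 : A) ⊗ₜ[k] a)
    refine (h1.trans h2).trans ?_
    change f₁ ((1 : A) ⊗ₜ[k] a) = algebraMap k A (εB a)
    simp [f₁]
  have b₂ : σ₂.comp (iA 𝔪 C) = (algebraMap k B).comp εA.toRingHom := by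
    ext a
    change σ₂ (algebraMap _ C (algebraMap _ _ (a ⊗ₜ[k] (1 : B)))) = algebraMap k B (εA a)
    have h1 := RingHom.congr_fun hσ₂' (algebraMap _ _ (a ⊗ₜ[k] (1 : B)))
    have h2 := RingHom.congr_fun hg₂' (a ⊗ₜ[k] (1 : B))
    refine (h1.trans h2).trans ?_
    change f₂ (a ⊗ₜ[k] (1 : B)) = algebraMap k B (εA a)
    simp [f₂]
  refine ⟨C, inferInstance, hC.henselian, iA 𝔪 C, iB 𝔪 C, σ₁, σ₂, hσ₁, hσ₂, ?_, a₁, b₁, a₂, b₂, ?_⟩
  · ext x
    change algebraMap _ C (algebraMap _ _ (algebraMap k A x ⊗ₜ[k] (1 : B))) =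
      algebraMap _ C (algebraMap _ _ ((1 : A) ⊗ₜ[k] algebraMap k B x))
    rw [← Algebra.TensorProduct.algebraMap_apply, Algebra.TensorProduct.algebraMap_apply']
  · intro m hm₁ hm₂ p₁ hp₁ p₂ hp₂
    refine subsingleton_minimalPrimes (bijective_residue εA) (bijective_residue εB) 𝔪 rfl σ₁ σ₂ m a₁ ?_ a₂ ?_
      hm₁ hm₂ p₁ p₂ hp₁ hp₂
    · intro b hb
      have h1 := RingHom.congr_fun b₁ b
      refine h1.trans ?_
      change algebraMap k A (εB b) = 0
      rw [(eq_zero_iff_mem εB b).2 hb, map_zero]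
    · intro b hb
      have h1 := RingHom.congr_fun b₂ b
      refine h1.trans ?_
      change algebraMap k B (εA b) = 0
      rw [(eq_zero_iff_mem εA b).2 hb, map_zero]

end K608.UnibAlg
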