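import Groth.Agent.EtpbcB.OshHens
import Groth.Agent.Sga4h.SLoc
import Groth.Agent.AlgSp.K611.GeomPt

/-!
# Lifting morphisms from henselian local schemes through etale charts of sheaves

* `exists_lift_chart`: a map `h_{Spec C} ⟶ F`, `C` henselian local, lifts through an etale chart, with prescribed
  residue point;
* `eq_of_resPt_chart`: uniqueness;
* `factor_point`: a point `f` of `X` with the same image as a `k`-rational point `g` (for `s : X ⟶ Spec k`) is
  `f ≫ s ≫ g`;
* `exists_retraction`: the strict localization of a `k`-scheme at a rational point (`k` sep. closed) has residue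
  field `k`.
-/

set_option autoImplicit false
universe u
open CategoryTheory CategoryTheory.Limits AlgebraicGeometry Opposite IsLocalRing
open AlgSp

namespace K608.UnibLift

open Groth.Agent.Etrest.StrictLoc

variable {S : Scheme.{u}} {F : Sp S}

theorem exists_lift_chart {V : Over S} {a : (yon S).obj V ⟶ F} (ha : RepWith @Etale a)
    {C : Type u} [CommRing C] [HenselianLocalRing C] {str : Spec (CommRingCat.of C) ⟶ S}
    {κ : Over S} (r : κ ⟶ Over.mk str) (hκ : κ.left = Spec (CommRingCat.of (ResidueField C)))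
    (hr : r.left = eqToHom hκ ≫ resPt C)
    (z : (yon S).obj (Over.mk str) ⟶ F) (x : κ ⟶ V) (h : (yon S).map x ≫ a = (yon S).map r ≫ z) :
    ∃ μ : Over.mk str ⟶ V, (yon S).map μ ≫ a = z ∧ r ≫ μ = x := by
  obtain ⟨W, f, g, sq⟩ := K611.exists_pullback a z ha.1
  have hg : Etale g.left := ha.2 _ _ _ sq
  obtain ⟨l, hl⟩ := (yon S).map_surjective (sq.lift _ _ h)
  have h1 : l ≫ f = x := (yon S).map_injective (by rw [Functor.map_comp, hl]; exact sq.lift_fst _ _ _)
  have h2 : l ≫ g = r := (yon S).map_injective (by rw [Functor.map_comp, hl]; exact sq.lift_snd _ _ _)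
  have h3 : (eqToHom hκ.symm ≫ l.left) ≫ g.left = resPt C ≫ 𝟙 _ := by
    have : l.left ≫ g.left = r.left := congrArg (·.left) h2
    rw [Category.assoc, this, hr, ← Category.assoc, eqToHom_trans, eqToHom_refl, Category.id_comp]
    exact (Category.comp_id _).symm
  obtain ⟨b, hb1, hb2⟩ := Groth.Agent.EtpbcB.OshHens.exists_lift_of_resPt g.left (𝟙 _) _ h3
  let b' : Over.mk str ⟶ W := Over.homMk b (by
    rw [← Over.w g, ← Category.assoc]
    exact (congrArg (· ≫ str) hb1).trans (Category.id_comp _))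
  have hb' : b' ≫ g = 𝟙 _ := Over.OverMorphism.ext hb1
  refine ⟨b' ≫ f, ?_, ?_⟩
  · rw [Functor.map_comp, Category.assoc, sq.w, ← Category.assoc, ← Functor.map_comp, hb',
      (yon S).map_id, Category.id_comp]
  · rw [← h1, ← Category.assoc]
    congr 1
    apply Over.OverMorphism.ext
    change r.left ≫ b = l.left
    rw [hr, Category.assoc, hb2, ← Category.assoc, eqToHom_trans, eqToHom_refl, Category.id_comp]

theorem eq_of_resPt_chart {V : Over S} {a : (yon S).obj V ⟶ F} (ha : RepWith @Etale a)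
    {C : Type u} [CommRing C] [IsLocalRing C] {str : Spec (CommRingCat.of C) ⟶ S}
    (x y : Over.mk str ⟶ V) (h : (yon S).map x ≫ a = (yon S).map y ≫ a)
    (hr : resPt C ≫ x.left = resPt C ≫ y.left) : x = y := by
  obtain ⟨W, f, g, sq⟩ := K611.exists_pullback a ((yon S).map y ≫ a) ha.1
  have hg : Etale g.left := ha.2 _ _ _ sq
  have w1 : (yon S).map x ≫ a = (yon S).map (𝟙 (Over.mk str)) ≫ (yon S).map y ≫ a := by
    rw [h, (yon S).map_id, Category.id_comp]
  have w2 : (yon S).map y ≫ a = (yon S).map (𝟙 (Over.mk str)) ≫ (yon S).map y ≫ a := by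
    rw [(yon S).map_id, Category.id_comp]
  obtain ⟨l, hl⟩ := (yon S).map_surjective (sq.lift _ _ w1)
  obtain ⟨l', hl'⟩ := (yon S).map_surjective (sq.lift _ _ w2)
  have h1 : l ≫ f = x := (yon S).map_injective (by rw [Functor.map_comp, hl]; exact sq.lift_fst _ _ _)
  have h2 : l ≫ g = 𝟙 _ := (yon S).map_injective (by rw [Functor.map_comp, hl]; exact sq.lift_snd _ _ _)
  have h1' : l' ≫ f = y := (yon S).map_injective (by rw [Functor.map_comp, hl']; exact sq.lift_fst _ _ _)
  have h2' : l' ≫ g = 𝟙 _ := (yon S).map_injective (by rw [Functor.map_comp, hl']; exact sq.lift_snd _ _ _)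
  let r : Over.mk (resPt C ≫ str) ⟶ Over.mk str := Over.homMk (resPt C) rfl
  have hrx : r ≫ x = r ≫ y := Over.OverMorphism.ext hr
  have h3 : r ≫ l = r ≫ l' := by
    apply (yon S).map_injective
    apply sq.hom_ext
    · rw [← Functor.map_comp, ← Functor.map_comp, Category.assoc, Category.assoc, h1, h1', hrx]
    · rw [← Functor.map_comp, ← Functor.map_comp, Category.assoc, Category.assoc, h2, h2']
  have h4 : l.left = l'.left := by
    refine Groth.Agent.EtpbcB.OshHens.eq_of_resPt g.left l.left l'.left ?_ ?_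
    · have e1 : l.left ≫ g.left = 𝟙 _ := congrArg (·.left) h2
      have e2 : l'.left ≫ g.left = 𝟙 _ := congrArg (·.left) h2'
      exact e1.trans e2.symm
    · exact congrArg (·.left) h3
  rw [← h1, ← h1', Over.OverMorphism.ext h4]

/-- A field valued point with the same image as a rational point. -/
theorem factor_point {X : Scheme.{u}} {k K : Type u} [Field k] [Field K]
    (f : Spec (CommRingCat.of K) ⟶ X) (g : Spec (CommRingCat.of k) ⟶ X)
    (s : X ⟶ Spec (CommRingCat.of k)) (hg : g ≫ s = 𝟙 _)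
    (h : f (closedPoint K) = g (closedPoint k)) : f ≫ s ≫ g = f := by
  obtain ⟨x, hx⟩ : ∃ x : X, g (closedPoint k) = x := ⟨_, rfl⟩
  obtain ⟨j, hj⟩ := exists_residueField_hom f x (h.trans hx)
  obtain ⟨j₀, hj₀⟩ := exists_residueField_hom g x hx
  obtain ⟨i, hi⟩ : ∃ i : k →+* X.residueField x,
      Spec.map (CommRingCat.ofHom i) = X.fromSpecResidueField x ≫ s :=
    ⟨(Spec.preimage (X.fromSpecResidueField x ≫ s)).hom, Spec.map_preimage _⟩
  have h1 : j₀.comp i = RingHom.id k := by
    rw [← spm_inj, spm_id]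
    change Spec.map (CommRingCat.ofHom (j₀.comp i)) = _
    rw [CommRingCat.ofHom_comp, Spec.map_comp, hi, ← Category.assoc, hj₀, hg]
  have h2 : i.comp j₀ = RingHom.id _ := by
    ext x
    exact j₀.injective (RingHom.congr_fun h1 (j₀ x))
  have e : X.fromSpecResidueField x ≫ s ≫ Spec.map (CommRingCat.ofHom j₀) = 𝟙 _ := by
    rw [← Category.assoc, ← hi, ← Spec.map_comp, ← CommRingCat.ofHom_comp, h2]
    exact Spec.map_id _
  calc f ≫ s ≫ g = (Spec.map (CommRingCat.ofHom j) ≫ X.fromSpecResidueField x) ≫ s ≫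
        Spec.map (CommRingCat.ofHom j₀) ≫ X.fromSpecResidueField x := by rw [hj, hj₀]
    _ = Spec.map (CommRingCat.ofHom j) ≫ (X.fromSpecResidueField x ≫ s ≫
        Spec.map (CommRingCat.ofHom j₀)) ≫ X.fromSpecResidueField x := by
      simp only [Category.assoc]
    _ = f := by
      rw [e]
      refine Eq.trans ?_ hj
      congr 1

/-- The strict localization of a `k`-scheme at a `k`-rational point has residue field `k`. -/
theorem exists_retraction {X : Scheme.{u}} {k A : Type u} [Field k] [IsSepClosed k] [CommRing A]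
    [IsLocalRing A] {ξ : Spec (CommRingCat.of A) ⟶ X} (hξ : IsStrictLoc ξ)
    (g : Spec (CommRingCat.of k) ⟶ X) (s : X ⟶ Spec (CommRingCat.of k)) (hg : g ≫ s = 𝟙 _)
    (h : ξ (closedPoint A) = g (closedPoint k)) (φ : k →+* A) (hφ : spm φ = ξ ≫ s) :
    ∃ ε : A →+* k, ε.comp φ = RingHom.id k ∧ spm ε ≫ ξ = g := by
  have hpt : (resPt A ≫ ξ) (closedPoint (ResidueField A)) = g (closedPoint k) :=
    (congrArg ξ (resPt_closedPoint A _)).trans h
  have hstar := factor_point (resPt A ≫ ξ) g s hg hpt
  have e1 : spm ((residue A).comp φ) = resPt A ≫ ξ ≫ s := by rw [spm_comp, hφ]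
  have hsurj : Function.Surjective ((residue A).comp φ) := by
    obtain ⟨x, i, hi, hsep⟩ := hξ.sep
    have hx : (resPt A ≫ ξ) (closedPoint (ResidueField A)) = x :=
      point_eq (i := i) (a := 𝟙 _) (by rw [Category.id_comp]; exact hi)
    obtain ⟨j₀, hj₀⟩ := exists_residueField_hom g x (hpt.symm.trans hx)
    obtain ⟨i₀, hi₀⟩ : ∃ i : k →+* X.residueField x,
        Spec.map (CommRingCat.ofHom i) = X.fromSpecResidueField x ≫ s :=
      ⟨(Spec.preimage (X.fromSpecResidueField x ≫ s)).hom, Spec.map_preimage _⟩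
    have h1 : j₀.comp i₀ = RingHom.id k := by
      rw [← spm_inj, spm_id]
      change Spec.map (CommRingCat.ofHom (j₀.comp i₀)) = _
      rw [CommRingCat.ofHom_comp, Spec.map_comp, hi₀, ← Category.assoc, hj₀, hg]
    have h2 : Function.Surjective i₀ := fun y =>
      ⟨j₀ y, j₀.injective (RingHom.congr_fun h1 (j₀ y))⟩
    have h3 : (residue A).comp φ = i.comp i₀ := by
      rw [← spm_inj, e1, spm_comp]
      change _ = spm i ≫ Spec.map (CommRingCat.ofHom i₀)
      rw [hi₀, ← Category.assoc, ← Category.assoc, ← hi]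
    have h4 : SepAlg i₀ := fun y => by
      obtain ⟨c, rfl⟩ := h2 y
      refine ⟨Polynomial.X - Polynomial.C c, Polynomial.separable_X_sub_C, ?_⟩
      simp
    rw [h3]
    exact (h4.comp hsep).surjective
  let e : k ≃+* ResidueField A := RingEquiv.ofBijective _ ⟨RingHom.injective _, hsurj⟩
  have he : (e.symm : ResidueField A →+* k).comp ((residue A).comp φ) = RingHom.id k := by
    ext x
    exact e.symm_apply_apply x
  refine ⟨(e.symm : ResidueField A →+* k).comp (residue A), by rw [RingHom.comp_assoc]; exact he, ?_⟩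
  rw [spm_comp, Category.assoc, ← hstar]
  change spm _ ≫ (resPt A ≫ ξ) ≫ s ≫ g = g
  have e2 : (resPt A ≫ ξ) ≫ s ≫ g = spm ((residue A).comp φ) ≫ g := by
    rw [e1]; simp only [Category.assoc]
  rw [e2, ← Category.assoc, ← spm_comp, he, spm_id, Category.id_comp]

end K608.UnibLift
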