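import Groth.Agent.AlgSp.K608.UnibAlg2
import Groth.Agent.AlgSp.K608.UnibLift
import Groth.Agent.AlgSp.K608.Pts
import Groth.Agent.S9238

/-!
# Geometric branches at the identity of a unital composition law over an algebraically closed field
-/

set_option autoImplicit false
universe u
open CategoryTheory CategoryTheory.Limits AlgebraicGeometry Opposite IsLocalRing
open AlgSp

namespace K608.UnibGeom

open Groth.Agent.Etrest.StrictLoc K608.UnibLift K608.UnibAlg

variable {S : Scheme.{u}}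

/-- A unital composition law on `R` with 'objects' `T` (part of the structure of a groupoid). -/
structure Law (T R : Sp S) where
  s : R ⟶ T
  t : R ⟶ T
  e : T ⟶ R
  mul : ∀ {X : Sp S} (α β : X ⟶ R), α ≫ s = β ≫ t → (X ⟶ R)
  e_s : e ≫ s = 𝟙 T
  e_t : e ≫ t = 𝟙 T
  comp_mul : ∀ {X X' : Sp S} (f : X' ⟶ X) (α β : X ⟶ R) (h : α ≫ s = β ≫ t)
    (h' : (f ≫ α) ≫ s = (f ≫ β) ≫ t), f ≫ mul α β h = mul (f ≫ α) (f ≫ β) h'
  mul_e : ∀ {X : Sp S} (α : X ⟶ R) (h : α ≫ s = (α ≫ s ≫ e) ≫ t), mul α (α ≫ s ≫ e) h = α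
  e_mul : ∀ {X : Sp S} (α : X ⟶ R) (h : (α ≫ t ≫ e) ≫ s = α ≫ t), mul (α ≫ t ≫ e) α h = α

namespace Law

variable {T R : Sp S} (L : Law T R)

theorem mul_congr {X : Sp S} {α α' β β' : X ⟶ R} (h : α ≫ L.s = β ≫ L.t) (h' : α' ≫ L.s = β' ≫ L.t)
    (ha : α = α') (hb : β = β') : L.mul α β h = L.mul α' β' h' := by
  subst ha hb; rfl

theorem mul_e' {X : Sp S} (α : X ⟶ R) (x : X ⟶ T) (hx : α ≫ L.s = x) (h : α ≫ L.s = (x ≫ L.e) ≫ L.t) :
    L.mul α (x ≫ L.e) h = α := by
  subst hx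
  refine Eq.trans ?_ (L.mul_e α (by rw [Category.assoc, Category.assoc, L.e_t, Category.comp_id]))
  exact L.mul_congr _ _ rfl (Category.assoc _ _ _)

theorem e_mul' {X : Sp S} (α : X ⟶ R) (x : X ⟶ T) (hx : α ≫ L.t = x) (h : (x ≫ L.e) ≫ L.s = α ≫ L.t) :
    L.mul (x ≫ L.e) α h = α := by
  subst hx
  refine Eq.trans ?_ (L.e_mul α (by rw [Category.assoc, Category.assoc, L.e_s, Category.comp_id]))
  exact L.mul_congr _ _ (Category.assoc _ _ _) rfl

theorem mul_e_e {X : Sp S} (x : X ⟶ T) (h : (x ≫ L.e) ≫ L.s = (x ≫ L.e) ≫ L.t) :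
    L.mul (x ≫ L.e) (x ≫ L.e) h = x ≫ L.e :=
  L.mul_e' _ _ (by rw [Category.assoc, L.e_s, Category.comp_id]) _

end Law

theorem isLocalHom_of_retract {A C : Type u} [CommRing A] [CommRing C] (j : A →+* C) (σ : C →+* A)
    (h : σ.comp j = RingHom.id A) : IsLocalHom j := by
  refine ⟨fun a ha => ?_⟩
  have h1 := ha.map σ
  have h2 : σ (j a) = a := RingHom.congr_fun h a
  rwa [h2] at h1

set_option maxHeartbeats 1600000 in
/-- The strict henselization at the identity has at most one minimal prime. -/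
theorem numGeomBranchesAt_eq_one {k : Type u} [Field k] [IsAlgClosed k]
    {w : Spec (CommRingCat.of k) ⟶ S} {R : Sp S} (L : Law ((yon S).obj (Over.mk w)) R) {V : Over S}
    (a : (yon S).obj V ⟶ R) (ha : RepWith @Etale a) (v : ↥V.left)
    (hv : Points.ofPt a v = K608.Pts.pt L.e) : Brnch.numGeomBranchesAt V.left v = 1 := by
  have hsc : IsSepClosed k := inferInstance
  -- the two structures of `k`-scheme on `V`
  obtain ⟨sV, hsV⟩ := (yon S).map_surjective (a ≫ L.s)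
  obtain ⟨tV, htV⟩ := (yon S).map_surjective (a ≫ L.t)
  -- the rational point
  obtain ⟨v₀, hv₀, hv₀'⟩ : ∃ v₀ : Over.mk w ⟶ V, (yon S).map v₀ ≫ a = L.e ∧
      v₀.left (closedPoint k) = v := by
    obtain ⟨v₀, hv₀, hv₀'⟩ := K611.exists_lift ha (K608.Pts.ofHom L.e) hsc v hv
    exact ⟨v₀, hv₀.trans (K608.Pts.toHom_ofHom L.e), hv₀'⟩
  have es : v₀ ≫ sV = 𝟙 _ := (yon S).map_injective (by
    rw [Functor.map_comp, hsV, ← Category.assoc, hv₀, L.e_s, (yon S).map_id])
  have et : v₀ ≫ tV = 𝟙 _ := (yon S).map_injective (by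
    rw [Functor.map_comp, htV, ← Category.assoc, hv₀, L.e_t, (yon S).map_id])
  have esl : v₀.left ≫ sV.left = 𝟙 _ := congrArg (·.left) es
  have etl : v₀.left ≫ tV.left = 𝟙 _ := congrArg (·.left) et
  have hsw : sV.left ≫ w = V.hom := Over.w sV
  have htw : tV.left ≫ w = V.hom := Over.w tV
  -- strict henselizations
  obtain ⟨A, _, _, ξA, hξA, hvA⟩ := Groth.Agent.Sga4h.SLoc.exists_strictLoc V.left v
  obtain ⟨B, _, _, ξB, hξB, hvB⟩ := Groth.Agent.Sga4h.SLoc.exists_strictLoc V.left v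
  have hA := hξA.henselian
  have hB := hξB.henselian
  obtain ⟨φA, hφA⟩ : ∃ φ : k →+* A, spm φ = ξA ≫ sV.left :=
    ⟨(Spec.preimage (ξA ≫ sV.left)).hom, Spec.map_preimage _⟩
  obtain ⟨φB, hφB⟩ : ∃ φ : k →+* B, spm φ = ξB ≫ tV.left :=
    ⟨(Spec.preimage (ξB ≫ tV.left)).hom, Spec.map_preimage _⟩
  obtain ⟨εA, hεA, hεA'⟩ := exists_retraction hξA v₀.left sV.left esl (hvA.trans hv₀'.symm) φA hφA
  obtain ⟨εB, hεB, hεB'⟩ := exists_retraction hξB v₀.left tV.left etl (hvB.trans hv₀'.symm) φB hφB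
  let _ : Algebra k A := φA.toAlgebra
  let _ : Algebra k B := φB.toAlgebra
  obtain ⟨C, _, hC, jA, jB, σ₁, σ₂, hσ₁, hσ₂, hj, h1, h1', h2, h2', huniq⟩ :=
    exists_prod (k := k) (A := A) (B := B)
      { εA with commutes' := fun r => RingHom.congr_fun hεA r }
      { εB with commutes' := fun r => RingHom.congr_fun hεB r }
  change jA.comp φA = jB.comp φB at hj
  replace h1' : σ₁.comp jB = φA.comp εB := h1'
  replace h2' : σ₂.comp jA = φB.comp εA := h2'
  have hjA : IsLocalHom jA := isLocalHom_of_retract jA σ₁ h1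
  have hjB : IsLocalHom jB := isLocalHom_of_retract jB σ₂ h2
  -- objects over `S`
  let qA : Over.mk (spm φA ≫ w) ⟶ Over.mk w := Over.homMk (spm φA) rfl
  let qB : Over.mk (spm φB ≫ w) ⟶ Over.mk w := Over.homMk (spm φB) rfl
  let qC : Over.mk (spm (jA.comp φA) ≫ w) ⟶ Over.mk w := Over.homMk (spm (jA.comp φA)) rfl
  let gA : Over.mk (spm φA ≫ w) ⟶ V := Over.homMk ξA (by
    change ξA ≫ V.hom = spm φA ≫ w
    rw [hφA, Category.assoc, hsw])
  let gB : Over.mk (spm φB ≫ w) ⟶ V := Over.homMk ξB (by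
    change ξB ≫ V.hom = spm φB ≫ w
    rw [hφB, Category.assoc, htw])
  let cA : Over.mk (spm (jA.comp φA) ≫ w) ⟶ Over.mk (spm φA ≫ w) := Over.homMk (spm jA) (by
    change spm jA ≫ spm φA ≫ w = spm (jA.comp φA) ≫ w
    rw [spm_comp, Category.assoc])
  let cB : Over.mk (spm (jA.comp φA) ≫ w) ⟶ Over.mk (spm φB ≫ w) := Over.homMk (spm jB) (by
    change spm jB ≫ spm φB ≫ w = spm (jA.comp φA) ≫ w
    rw [hj, spm_comp, Category.assoc])
  have gAs : gA ≫ sV = qA := Over.OverMorphism.ext hφA.symm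
  have gBt : gB ≫ tV = qB := Over.OverMorphism.ext hφB.symm
  have cAq : cA ≫ qA = qC := Over.OverMorphism.ext (spm_comp φA jA).symm
  have cBq : cB ≫ qB = qC := Over.OverMorphism.ext (by
    change spm jB ≫ spm φB = spm (jA.comp φA)
    rw [hj, spm_comp])
  -- the composition
  have hcomp : ((yon S).map (cA ≫ gA) ≫ a) ≫ L.s = ((yon S).map (cB ≫ gB) ≫ a) ≫ L.t := by
    rw [Category.assoc, Category.assoc, ← hsV, ← htV, ← Functor.map_comp, ← Functor.map_comp,
      Category.assoc, Category.assoc, gAs, gBt, cAq, cBq]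
  obtain ⟨z, hz⟩ : ∃ z, z = L.mul ((yon S).map (cA ≫ gA) ≫ a) ((yon S).map (cB ≫ gB) ≫ a) hcomp :=
    ⟨_, rfl⟩
  -- values of `z` on test objects
  have hzval : ∀ {X : Over S} (f : X ⟶ Over.mk (spm (jA.comp φA) ≫ w)) (α β : (yon S).obj X ⟶ R)
      (hαβ : α ≫ L.s = β ≫ L.t), (yon S).map (f ≫ cA ≫ gA) ≫ a = α → (yon S).map (f ≫ cB ≫ gB) ≫ a = β →
      (yon S).map f ≫ z = L.mul α β hαβ := by
    intro X f α β hαβ e1 e2
    have e1' : (yon S).map f ≫ (yon S).map (cA ≫ gA) ≫ a = α := by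
      rw [← Category.assoc, ← Functor.map_comp, e1]
    have e2' : (yon S).map f ≫ (yon S).map (cB ≫ gB) ≫ a = β := by
      rw [← Category.assoc, ← Functor.map_comp, e2]
    rw [hz, L.comp_mul _ _ _ _ (by rw [e1', e2', hαβ])]
    exact L.mul_congr _ _ e1' e2'
  -- the residue point
  let κ : Over S := Over.mk (resPt C ≫ spm (jA.comp φA) ≫ w)
  let r : κ ⟶ Over.mk (spm (jA.comp φA) ≫ w) := Over.homMk (resPt C) rfl
  have hcl : ∀ {A : Type u} [CommRing A] [IsLocalRing A] (j : A →+* C) [IsLocalHom j]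
      (ξ : Spec (CommRingCat.of A) ⟶ V.left), ξ (closedPoint A) = v →
      (resPt C ≫ spm j ≫ ξ) (closedPoint (ResidueField C)) = v₀.left (closedPoint k) := by
    intro A _ _ j _ ξ hξ
    rw [hv₀', ← hξ]
    have e1 : resPt C ≫ spm j ≫ ξ = spm (ResidueField.map j) ≫ resPt A ≫ ξ := by
      rw [← Category.assoc, resPt_spm, Category.assoc]
    rw [e1]
    exact congrArg ξ (resPt_closedPoint A _)
  have rA : r ≫ cA ≫ gA = r ≫ qC ≫ v₀ := by
    apply Over.OverMorphism.ext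
    change resPt C ≫ spm jA ≫ ξA = resPt C ≫ spm (jA.comp φA) ≫ v₀.left
    have h3 := factor_point (resPt C ≫ spm jA ≫ ξA) v₀.left sV.left esl (hcl jA ξA hvA)
    rw [← h3]
    simp only [spm_comp, hφA, Category.assoc]
  have rB : r ≫ cB ≫ gB = r ≫ qC ≫ v₀ := by
    apply Over.OverMorphism.ext
    change resPt C ≫ spm jB ≫ ξB = resPt C ≫ spm (jA.comp φA) ≫ v₀.left
    have h3 := factor_point (resPt C ≫ spm jB ≫ ξB) v₀.left tV.left etl (hcl jB ξB hvB)
    rw [← h3, hj]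
    simp only [spm_comp, hφB, Category.assoc]
  have hrz : (yon S).map (r ≫ qC ≫ v₀) ≫ a = (yon S).map r ≫ z := by
    have e1 : (yon S).map (r ≫ qC ≫ v₀) ≫ a = (yon S).map (r ≫ qC) ≫ L.e := by
      rw [← Category.assoc, Functor.map_comp, Category.assoc, hv₀]
    have e2 : ((yon S).map (r ≫ qC) ≫ L.e) ≫ L.s = ((yon S).map (r ≫ qC) ≫ L.e) ≫ L.t := by
      rw [Category.assoc, Category.assoc, L.e_s, L.e_t]
    rw [hzval r _ _ e2 (by rw [rA, e1]) (by rw [rB, e1]), L.mul_e_e, e1]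
  obtain ⟨μ, hμ, hμr⟩ := exists_lift_chart ha r rfl (by
    change resPt C = _
    rw [eqToHom_refl, Category.id_comp]) z (r ≫ qC ≫ v₀) hrz
  have hμA : resPt C ≫ μ.left = resPt C ≫ spm jA ≫ ξA := congrArg (·.left) (hμr.trans rA.symm)
  have hμB : resPt C ≫ μ.left = resPt C ≫ spm jB ≫ ξB := congrArg (·.left) (hμr.trans rB.symm)
  -- the comultiplication
  obtain ⟨m, ⟨hm, hm'⟩, -⟩ := hξA.universal C μ.left (ResidueField.map jA) (by
    rw [hμA, ← Category.assoc, ← resPt_spm, Category.assoc])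
  -- first axis
  have key₁ : spm σ₁ ≫ μ.left = ξA := by
    let d : Over.mk (spm φA ≫ w) ⟶ Over.mk (spm (jA.comp φA) ≫ w) := Over.homMk (spm σ₁) (by
      change spm σ₁ ≫ spm (jA.comp φA) ≫ w = spm φA ≫ w
      rw [← Category.assoc, ← spm_comp, ← RingHom.comp_assoc, h1, RingHom.id_comp])
    have d1 : d ≫ cA ≫ gA = gA := by
      apply Over.OverMorphism.ext
      change spm σ₁ ≫ spm jA ≫ ξA = ξA
      rw [← Category.assoc, ← spm_comp, h1, spm_id, Category.id_comp]
    have d2 : d ≫ cB ≫ gB = qA ≫ v₀ := by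
      apply Over.OverMorphism.ext
      change spm σ₁ ≫ spm jB ≫ ξB = spm φA ≫ v₀.left
      rw [← Category.assoc, ← spm_comp, h1', spm_comp, Category.assoc, hεB']
    have e1 : (yon S).map (qA ≫ v₀) ≫ a = (yon S).map qA ≫ L.e := by
      rw [Functor.map_comp, Category.assoc, hv₀]
    have e0 : ((yon S).map gA ≫ a) ≫ L.s = (yon S).map qA := by
      rw [Category.assoc, ← hsV, ← Functor.map_comp, gAs]
    have e2 : ((yon S).map gA ≫ a) ≫ L.s = ((yon S).map qA ≫ L.e) ≫ L.t := by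
      rw [e0, Category.assoc, L.e_t, Category.comp_id]
    have e3 : (yon S).map (d ≫ μ) ≫ a = (yon S).map gA ≫ a := by
      rw [Functor.map_comp, Category.assoc, hμ, hzval d _ _ e2 (by rw [d1]) (by rw [d2, e1]),
        L.mul_e' _ _ e0]
    have e4 : d ≫ μ = gA := by
      refine eq_of_resPt_chart ha _ _ e3 ?_
      change resPt A ≫ spm σ₁ ≫ μ.left = resPt A ≫ ξA
      rw [← Category.assoc, resPt_spm, Category.assoc, hμA]
      rw [← Category.assoc (resPt C), ← Category.assoc, ← Category.assoc, ← resPt_spm,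
        Category.assoc, Category.assoc, ← Category.assoc (spm σ₁), ← spm_comp, h1, spm_id,
        Category.id_comp]
    exact congrArg (·.left) e4
  have key₂ : spm σ₂ ≫ μ.left = ξB := by
    let d : Over.mk (spm φB ≫ w) ⟶ Over.mk (spm (jA.comp φA) ≫ w) := Over.homMk (spm σ₂) (by
      change spm σ₂ ≫ spm (jA.comp φA) ≫ w = spm φB ≫ w
      rw [hj, ← Category.assoc, ← spm_comp, ← RingHom.comp_assoc, h2, RingHom.id_comp])
    have d1 : d ≫ cA ≫ gA = qB ≫ v₀ := by
      apply Over.OverMorphism.ext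
      change spm σ₂ ≫ spm jA ≫ ξA = spm φB ≫ v₀.left
      rw [← Category.assoc, ← spm_comp, h2', spm_comp, Category.assoc, hεA']
    have d2 : d ≫ cB ≫ gB = gB := by
      apply Over.OverMorphism.ext
      change spm σ₂ ≫ spm jB ≫ ξB = ξB
      rw [← Category.assoc, ← spm_comp, h2, spm_id, Category.id_comp]
    have e1 : (yon S).map (qB ≫ v₀) ≫ a = (yon S).map qB ≫ L.e := by
      rw [Functor.map_comp, Category.assoc, hv₀]
    have e0 : ((yon S).map gB ≫ a) ≫ L.t = (yon S).map qB := by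
      rw [Category.assoc, ← htV, ← Functor.map_comp, gBt]
    have e2 : ((yon S).map qB ≫ L.e) ≫ L.s = ((yon S).map gB ≫ a) ≫ L.t := by
      rw [e0, Category.assoc, L.e_s, Category.comp_id]
    have e3 : (yon S).map (d ≫ μ) ≫ a = (yon S).map gB ≫ a := by
      rw [Functor.map_comp, Category.assoc, hμ, hzval d _ _ e2 (by rw [d1, e1]) (by rw [d2]),
        L.e_mul' _ _ e0]
    have e4 : d ≫ μ = gB := by
      refine eq_of_resPt_chart ha _ _ e3 ?_
      change resPt B ≫ spm σ₂ ≫ μ.left = resPt B ≫ ξB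
      rw [← Category.assoc, resPt_spm, Category.assoc, hμB]
      rw [← Category.assoc (resPt C), ← Category.assoc, ← Category.assoc, ← resPt_spm,
        Category.assoc, Category.assoc, ← Category.assoc (spm σ₂), ← spm_comp, h2, spm_id,
        Category.id_comp]
    exact congrArg (·.left) e4
  have hmloc : IsLocalHom m := isLocalHom_of_residue m _ hm'
  have b1 : Function.Bijective (σ₁.comp m) :=
    hξA.bijective hξA (σ₁.comp m) (by rw [spm_comp, Category.assoc, hm, key₁])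
  have b2 : Function.Bijective (σ₂.comp m) :=
    hξA.bijective hξB (σ₂.comp m) (by rw [spm_comp, Category.assoc, hm, key₂])
  have hsub := huniq m b1 b2
  obtain ⟨x, _, _, hx, -, hx'⟩ := Groth.Agent.Sga4h.SLoc.exists_sh hξA
  have hxv : x = v := hx'.trans hvA
  subst hxv
  change Brnch.numGeomBranches _ = 1
  rw [← Groth.Agent.S9238.result _ A]
  obtain ⟨p, hp, -⟩ := Ideal.exists_minimalPrimes_le (I := (⊥ : Ideal A)) (J := maximalIdeal A) bot_le
  exact ENat.card_eq_one_iff_unique.2 ⟨⟨⟨⟨p, hp⟩⟩, fun x => Subtype.ext (hsub _ x.2 _ hp)⟩⟩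

end K608.UnibGeom
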