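import Groth.Agent.AlgSp.K608.UnibGeom
import Groth.Agent.AlgSp.K608.TransSq
import Groth.Agent.AlgSp.K608.Field
import Groth.Agent.AlgSp.K608.Comp
import Groth.Agent.AlgSp.K597.LocP
import Groth.Agent.AlgSp.K597.EtLoc
import Groth.Agent.AlgSp.K616.Inv
import Groth.Agent.Brnch.K580.FlatLe

/-!
# Groupoids over a field are geometrically unibranch
-/

set_option autoImplicit false
universe u
open CategoryTheory CategoryTheory.Limits AlgebraicGeometry Opposite IsLocalRing
open AlgSp

namespace K608.UnibGpd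

open K608.Gpd K608.UnibGeom

variable {S : Scheme.{u}} {B : Sp S}

theorem one_le_numGeomBranches (A : Type u) [CommRing A] [IsLocalRing A] :
    1 ≤ Brnch.numGeomBranches A := by
  obtain ⟨T, _, _, _, _, hT, -⟩ := Groth.Agent.Hensel.Exist.exists_isStrictHenselization (R := A)
  rw [← Groth.Agent.S9238.result A T]
  obtain ⟨p, hp, -⟩ := Ideal.exists_minimalPrimes_le (I := (⊥ : Ideal T)) (J := maximalIdeal T) bot_le
  have : Nonempty (minimalPrimes T) := ⟨⟨p, hp⟩⟩
  exact ENat.one_le_card_iff_nonempty _ |>.2 this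

/-- Being geometrically unibranch descends along flat morphisms. -/
theorem numGeomBranchesAt_eq_one_of_flat {X Y : Scheme.{u}} (f : X ⟶ Y) [Flat f] (x : X)
    (h : Brnch.numGeomBranchesAt X x = 1) : Brnch.numGeomBranchesAt Y (f x) = 1 := by
  apply le_antisymm _ (one_le_numGeomBranches _)
  rw [← h]
  let _ := (f.stalkMap x).hom.toAlgebra
  have h1 : Module.Flat (Y.presheaf.stalk (f x)) (X.presheaf.stalk x) := Flat.stalkMap f x
  have h2 : IsLocalHom (algebraMap (Y.presheaf.stalk (f x)) (X.presheaf.stalk x)) :=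
    inferInstanceAs (IsLocalHom (f.stalkMap x).hom)
  exact K580.FlatLe.numGeomBranches_le _ _

/-- The composition law of the restriction of a groupoid along `g : T ⟶ U`, in a form with one projection. -/
theorem exists_law (G : GroupoidSp B) {T P R' : Sp S} {α : P ⟶ G.R} {q : P ⟶ T} {g : T ⟶ G.U}
    (hP : IsPullback α q G.s g) {π : R' ⟶ P} {y : R' ⟶ T} (hR : IsPullback π y (α ≫ G.t) g)
    (x : T ⟶ P) (hxq : x ≫ q = 𝟙 T) (hxα : x ≫ α = g ≫ G.e) :
    ∃ L : Law T R', L.e ≫ π = x := by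
  have he : x ≫ α ≫ G.t = 𝟙 T ≫ g := by
    rw [← Category.assoc, hxα, Category.assoc, G.e_t, Category.comp_id, Category.id_comp]
  -- the composition
  have hc0 : ∀ {X : Sp S} (a b : X ⟶ R'), a ≫ π ≫ q = b ≫ y →
      (a ≫ π ≫ α) ≫ G.s = (b ≫ π ≫ α) ≫ G.t := by
    intro X a b h
    have e1 : (a ≫ π ≫ α) ≫ G.s = (a ≫ π ≫ q) ≫ g := by
      simp only [Category.assoc, hP.w]
    have e2 : (b ≫ π ≫ α) ≫ G.t = (b ≫ y) ≫ g := by
      simp only [Category.assoc, hR.w]
    rw [e1, e2, h]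
  have hc1 : ∀ {X : Sp S} (a b : X ⟶ R') (h : a ≫ π ≫ q = b ≫ y),
      mul G (a ≫ π ≫ α) (b ≫ π ≫ α) (hc0 a b h) ≫ G.s = (b ≫ π ≫ q) ≫ g := by
    intro X a b h
    rw [mul_s]
    simp only [Category.assoc, hP.w]
  have hc2 : ∀ {X : Sp S} (a b : X ⟶ R') (h : a ≫ π ≫ q = b ≫ y),
      hP.lift _ _ (hc1 a b h) ≫ α ≫ G.t = (a ≫ y) ≫ g := by
    intro X a b h
    rw [hP.lift_fst_assoc, mul_t]
    simp only [Category.assoc, hR.w]
  refine ⟨{ s := π ≫ q
            t := y
            e := hR.lift x (𝟙 T) he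
            mul := fun {X} a b h => hR.lift (hP.lift _ _ (hc1 a b h)) (a ≫ y) (hc2 a b h)
            e_s := by rw [hR.lift_fst_assoc, hxq]
            e_t := hR.lift_snd _ _ _
            comp_mul := ?_
            mul_e := ?_
            e_mul := ?_ }, hR.lift_fst _ _ _⟩
  · intro X X' f a b h h'
    apply hR.hom_ext
    · apply hP.hom_ext
      · simp only [Category.assoc, IsPullback.lift_fst, comp_mul]
      · simp only [Category.assoc, IsPullback.lift_snd, IsPullback.lift_fst]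
    · simp only [Category.assoc, IsPullback.lift_snd]
  · intro X a h
    have e1 : (a ≫ (π ≫ q) ≫ hR.lift x (𝟙 T) he) ≫ π ≫ α = one G ((a ≫ π ≫ q) ≫ g) := by
      rw [Category.assoc, Category.assoc, Category.assoc, hR.lift_fst_assoc, hxα, one]
      simp only [Category.assoc]
    apply hR.hom_ext
    · rw [hR.lift_fst]
      apply hP.hom_ext
      · rw [hP.lift_fst]
        refine (mul_congr G _ rfl e1).trans ?_
        rw [mul_one]
        simp only [Category.assoc]
      · rw [hP.lift_snd]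
        simp only [Category.assoc, IsPullback.lift_fst_assoc, hxq, Category.comp_id]
    · rw [hR.lift_snd]
  · intro X a h
    have e1 : (a ≫ y ≫ hR.lift x (𝟙 T) he) ≫ π ≫ α = one G ((a ≫ y) ≫ g) := by
      rw [Category.assoc, Category.assoc, hR.lift_fst_assoc, hxα, one]
      simp only [Category.assoc]
    apply hR.hom_ext
    · rw [hR.lift_fst]
      apply hP.hom_ext
      · rw [hP.lift_fst]
        refine (mul_congr G _ e1 rfl).trans ?_
        rw [one_mul]
        simp only [Category.assoc]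
      · rw [hP.lift_snd]
        simp only [Category.assoc]
    · rw [hR.lift_snd]
      simp only [Category.assoc, IsPullback.lift_snd, Category.comp_id]

/-- For a groupoid over the spectrum of a field the space of arrows is geometrically unibranch. -/
theorem hasAt_numGeomBranches (G : GroupoidSp B) (hR : IsAlgSpace G.R) {k : Type u} [Field k]
    {σ : Spec (CommRingCat.of k) ⟶ S} (eU : G.U ≅ (yon S).obj (Over.mk σ)) (r : Points G.R) :
    HasAt (fun V v => Brnch.numGeomBranchesAt V v = 1) G.R r := by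
  have hU : IsAlgSpace G.U := (isAlgSpace_iff_of_iso eU).2 (IsAlgSpace.yon_obj _)
  -- a point with values in an algebraically closed field
  obtain ⟨K₀, _, w₀, ρ₀, rfl⟩ := K608.Pts.exists_pt r
  let K := AlgebraicClosure K₀
  let w : Spec (CommRingCat.of K) ⟶ S := Spec.map (CommRingCat.ofHom (algebraMap K₀ K)) ≫ w₀
  let ρ : (yon S).obj (Over.mk w) ⟶ G.R :=
    (yon S).map (Over.homMk (Spec.map (CommRingCat.ofHom (algebraMap K₀ K))) rfl :
      Over.mk w ⟶ Over.mk w₀) ≫ ρ₀
  have hρ : K608.Pts.pt ρ = K608.Pts.pt ρ₀ := K608.Pts.pt_map_comp _ _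
  rw [← hρ]
  obtain ⟨P, α, β, q, x, hα, hβ, -, hxq, hxα, hxβ⟩ := K608.TransSq.exists_trans G ρ
  have hT : IsAlgSpace ((yon S).obj (Over.mk w)) := IsAlgSpace.yon_obj _
  have hP : IsAlgSpace P := K608.Comp.isAlgSpace_of_isPullback hα hR hT hU
  have sq := IsPullback.of_hasPullback (α ≫ G.t) (ρ ≫ G.t)
  have hR' : IsAlgSpace (pullback (α ≫ G.t) (ρ ≫ G.t)) :=
    K608.Comp.isAlgSpace_of_isPullback sq hP hT hU
  obtain ⟨L, hL⟩ := exists_law G hα sq x hxq (hxα.trans (Category.assoc _ _ _).symm)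
  -- flatness
  have hflat : ∀ (g : (yon S).obj (Over.mk w) ⟶ G.U), LocP @Flat g := by
    intro g
    have h1 : LocP @Flat (g ≫ eU.hom) := K608.Field.locP_flat_to_field _
    have h2 := K608.Field.LocP.comp_iso_right eU.symm h1
    rw [Iso.symm_hom, Category.assoc, eU.hom_inv_id, Category.comp_id] at h2
    exact h2
  have f1 : LocP @Flat (pullback.fst (α ≫ G.t) (ρ ≫ G.t)) :=
    K597.locP_bc K597.etLoc_flat sq.flip hT.hasAtlas hU.hasAtlas hP.hasAtlas (hflat _)
  have f2 : LocP @Flat β :=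
    K597.locP_bc K597.etLoc_flat hβ.flip hT.hasAtlas hU.hasAtlas hR.hasAtlas (hflat _)
  have f3 : LocP @Flat (pullback.fst (α ≫ G.t) (ρ ≫ G.t) ≫ β) :=
    K597.locP_comp K597.etLoc_flat hR'.hasAtlas hP.hasAtlas hR.hasAtlas f1 f2
  -- charts
  obtain ⟨V, a, v, ha, hv⟩ := K616.Inv.exists_chart hR (K608.Pts.pt ρ)
  have hmap : Points.ofPt a v = Points.map (pullback.fst (α ≫ G.t) (ρ ≫ G.t) ≫ β) (K608.Pts.pt L.e) := by
    rw [hv, K608.Pts.map_pt, ← Category.assoc, hL, hxβ]
  obtain ⟨V', a', h, v', ha', hcomm, hv', hhv⟩ :=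
    K616.Inv.exists_diagram_over hR' _ a ha (K608.Pts.pt L.e) v hmap
  have hfl : Flat h.left := f3 a' a h ha' ha hcomm
  have h1 := numGeomBranchesAt_eq_one L a' ha' v' hv'
  refine ⟨V, a, v, ha, hv, ?_⟩
  rw [← hhv]
  exact numGeomBranchesAt_eq_one_of_flat h.left v' h1

end K608.UnibGpd
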